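import Cfsg.Agent.Lib.Local.FF.Split
import Cfsg.Agent.Lib.Local.PLengthChain
import Cfsg.Agent.Lib.Local.TimmesfeldReplacement
import Mathlib.GroupTheory.SemidirectProduct

/-!
# The pair `(V, J C / C)` in the semidirect product `V ⋊ G / C_G(V)`
-/

set_option autoImplicit false
set_option linter.style.haveILetI false

namespace Cfsg.Lib.Local.FF

open Subgroup
open scoped commutatorElement

universe u

variable {G : Type u} [Group G] [Finite G] {p : ℕ} [hp : Fact p.Prime] (V : Subgroup G) [V.Normal]

/-- The conjugation action of `G ⧸ C(V)` on `V`. -/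
noncomputable def modAct : G ⧸ centralizer (V : Set G) →* MulAut ↥V :=
  QuotientGroup.lift _ (MulAut.conjNormal (H := V)) fun g hg => by
    refine MonoidHom.mem_ker.2 (MulEquiv.ext fun v => Subtype.ext ?_)
    rw [MulAut.conjNormal_apply, MulAut.one_apply, ← mem_centralizer_iff.1 hg v v.2, mul_inv_cancel_right]

/-- The semidirect product of `V` and `G ⧸ C(V)`. -/
abbrev Model := ↥V ⋊[modAct V] (G ⧸ centralizer (V : Set G))

instance : Finite (Model V) := Finite.of_equiv _ SemidirectProduct.equivProd.symm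

/-- The map of `G` into the model. -/
noncomputable def toModel : G →* Model V := SemidirectProduct.inr.comp (QuotientGroup.mk' _)

/-- The image of `V` in the model. -/
noncomputable def modV : Subgroup (Model V) := (SemidirectProduct.inl : ↥V →* Model V).range

theorem toModel_ker : (toModel V).ker = centralizer (V : Set G) := by
  rw [toModel, ← MonoidHom.comap_ker, (MonoidHom.ker_eq_bot_iff _).2 SemidirectProduct.inr_injective,
    MonoidHom.comap_bot, QuotientGroup.ker_mk']

omit [Finite G] in
theorem toModel_conj (g : G) (v : ↥V) :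
    toModel V g * SemidirectProduct.inl v * (toModel V g)⁻¹ = SemidirectProduct.inl (MulAut.conjNormal g v) := by
  have : modAct V (QuotientGroup.mk' _ g) v = MulAut.conjNormal g v := rfl
  rw [← this, SemidirectProduct.inl_aut]
  simp [toModel]

theorem card_modV : Nat.card (modV V) = Nat.card V := by
  rw [modV, MonoidHom.range_eq_map, card_map_of_injective SemidirectProduct.inl_injective, card_top]

theorem modV_inf_centralizer (A : Subgroup G) :
    modV V ⊓ centralizer ((A.map (toModel V) : Subgroup (Model V)) : Set (Model V)) =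
      ((V ⊓ centralizer (A : Set G)).subgroupOf V).map SemidirectProduct.inl := by
  ext x
  constructor
  · rintro ⟨⟨v, rfl⟩, hx⟩
    refine ⟨v, ⟨v.2, mem_centralizer_iff.2 fun a ha => ?_⟩, rfl⟩
    have h := mem_centralizer_iff.1 hx _ (mem_map_of_mem (toModel V) ha)
    rw [← mul_inv_eq_iff_eq_mul, toModel_conj] at h
    have h1 := congrArg Subtype.val (SemidirectProduct.inl_injective h)
    rw [MulAut.conjNormal_apply] at h1
    exact mul_inv_eq_iff_eq_mul.1 h1
  · rintro ⟨v, hv, rfl⟩
    refine ⟨⟨v, rfl⟩, mem_centralizer_iff.2 ?_⟩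
    rintro _ ⟨a, ha, rfl⟩
    rw [← mul_inv_eq_iff_eq_mul, toModel_conj]
    congr 1
    refine Subtype.ext ?_
    rw [MulAut.conjNormal_apply]
    rw [show a * (v : G) = (v : G) * a from mem_centralizer_iff.1 hv.2 a ha, mul_inv_cancel_right]

theorem card_fixed (A : Subgroup G) :
    Nat.card (modV V ⊓ centralizer ((A.map (toModel V) : Subgroup (Model V)) : Set (Model V)) :
        Subgroup (Model V)) = Nat.card (V ⊓ centralizer (A : Set G) : Subgroup G) := by
  rw [modV_inf_centralizer, card_map_of_injective SemidirectProduct.inl_injective,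
    Nat.card_congr (subgroupOfEquivOfLe inf_le_left).toEquiv]

theorem modV_centralizer_inf (K : Subgroup G) :
    K.map (toModel V) ⊓ centralizer ((modV V : Subgroup (Model V)) : Set (Model V)) = ⊥ := by
  rw [eq_bot_iff]
  rintro _ ⟨⟨g, -, rfl⟩, hg⟩
  rw [mem_bot, ← MonoidHom.mem_ker, toModel_ker]
  refine mem_centralizer_iff.2 fun v hv => ?_
  have h := mem_centralizer_iff.1 hg (SemidirectProduct.inl ⟨v, hv⟩) ⟨_, rfl⟩
  have h2 : toModel V g * SemidirectProduct.inl ⟨v, hv⟩ * (toModel V g)⁻¹ = SemidirectProduct.inl ⟨v, hv⟩ := by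
    rw [← h, mul_inv_cancel_right]
  rw [toModel_conj] at h2
  have h1 := congrArg Subtype.val (SemidirectProduct.inl_injective h2)
  rw [MulAut.conjNormal_apply] at h1
  exact (mul_inv_eq_iff_eq_mul.1 h1).symm

theorem isEA_modV (hV : Cfsg.IsElementaryAbelian p V) : Cfsg.IsElementaryAbelian p (modV V) := by
  refine ⟨⟨⟨?_⟩⟩, ?_⟩
  · rintro ⟨_, v, rfl⟩ ⟨_, w, rfl⟩
    refine Subtype.ext ?_
    show SemidirectProduct.inl v * SemidirectProduct.inl w = _
    rw [← map_mul, show v * w = w * v from Subtype.ext (Thompson.isEA_commute hV v.2 w.2).eq, map_mul]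
    rfl
  · rintro _ ⟨v, rfl⟩
    rw [← map_pow, show v ^ p = 1 from Subtype.ext (hV.2 v v.2), map_one]

theorem map_le_normalizer_modV (K : Subgroup G) :
    K.map (toModel V) ≤ normalizer ((modV V : Subgroup (Model V)) : Set (Model V)) := by
  rintro _ ⟨g, -, rfl⟩
  refine mem_normalizer_fintype ?_
  rintro _ ⟨v, rfl⟩
  exact ⟨_, (toModel_conj V g v).symm⟩

/-- The pair satisfies the hypotheses of the structure theorem. -/
theorem setup_model (hsep : Cfsg.IsPSolvable p G) (hV : Cfsg.IsElementaryAbelian p V)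
    (hO : Cfsg.pCore p (G ⧸ centralizer (V : Set G)) = ⊥) (K : Subgroup G) [K.Normal] :
    Setup p (modV V) (K.map (toModel V)) := by
  refine ⟨isEA_modV V hV, map_le_normalizer_modV V K, modV_centralizer_inf V K, ?_⟩
  set H := K.map (toModel V) with hH
  have hHs : Cfsg.IsPSolvable p ↥H :=
    Core.isPSolvable_of_surjective ((toModel V).subgroupMap K) ((toModel V).subgroupMap_surjective K)
      (Core.isPSolvable_subgroup hsep K)
  refine centralizer_pPrimeCore_le hHs ?_
  set R := (toModel V).range with hR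
  have hRbot : Cfsg.pCore p ↥R = ⊥ := by
    let e : G ⧸ centralizer (V : Set G) ≃* ↥R :=
      (QuotientGroup.quotientMulEquivOfEq (toModel_ker V).symm).trans
        (QuotientGroup.quotientKerEquivRange (toModel V))
    rw [← Core.map_pCore_equiv e, hO, Subgroup.map_bot]
  set N := (Cfsg.pCore p ↥H).map H.subtype with hN
  have hHR : H ≤ R := map_le_range _ _
  have hRH : R ≤ normalizer (H : Set (Model V)) := by
    rintro _ ⟨g, rfl⟩
    refine mem_normalizer_fintype ?_
    rintro _ ⟨k, hk, rfl⟩
    exact ⟨g * k * g⁻¹, (inferInstance : K.Normal).conj_mem k hk g, by simp⟩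
  haveI : (N.subgroupOf R).Normal := (normal_subgroupOf_iff_le_normalizer ((map_subtype_le _).trans hHR)).2
    (hRH.trans (Core.normalizer_le_normalizer_map_char _))
  have hNp : IsPGroup p (N.subgroupOf R) := ((Core.pCore_isPGroup p ↥H).map H.subtype).of_equiv
    (subgroupOfEquivOfLe ((map_subtype_le _).trans hHR)).symm
  have h := Core.le_pCore (N := N.subgroupOf R) hNp
  rw [hRbot, le_bot_iff, subgroupOf_eq_bot, disjoint_iff, inf_eq_left.2 ((map_subtype_le _).trans hHR),
    Subgroup.map_eq_bot_iff_of_injective _ H.subtype_injective] at h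
  exact h

/-- An elementary abelian subgroup that is largest in the join with `V` induces a best offender. -/
theorem best_of_maxEA' (hV : Cfsg.IsElementaryAbelian p V) {A : Subgroup G}
    (hA : Cfsg.IsElementaryAbelian p A ∧
      ∀ B : Subgroup G, B ≤ A ⊔ V → Cfsg.IsElementaryAbelian p B → Nat.card B ≤ Nat.card A) :
    Cfsg.IsBestOffenderOn p (modV V) (A.map (toModel V)) := by
  have hAe : Cfsg.IsElementaryAbelian p (A.map (toModel V)) := Thompson.isEA_map _ hA.1
  refine ⟨fun B hB => ?_, ?_, fun a ha => ?_⟩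
  swap
  · refine commutator_le.2 fun a ha b hb => ?_
    rw [commutatorElement_eq_one_iff_mul_comm.2 (Thompson.isEA_commute hAe ha hb).eq]
    exact one_mem _
  swap
  · rw [hAe.2 a ha]; exact one_mem _
  set B₀ := A ⊓ B.comap (toModel V) with hB₀
  have hB₀map : B₀.map (toModel V) = B := by
    refine le_antisymm (map_le_iff_le_comap.2 inf_le_right) fun b hb => ?_
    obtain ⟨a, ha, rfl⟩ := hB hb
    exact ⟨a, ⟨ha, hb⟩, rfl⟩
  set C := centralizer (V : Set G) with hC
  have hcard : ∀ X : Subgroup G, A ⊓ C ≤ X → X ≤ A →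
      Nat.card X = Nat.card (A ⊓ C : Subgroup G) * Nat.card (X.map (toModel V)) := by
    intro X hX hXA
    have h := Core.card_mul_relIndex (inf_le_left : X ⊓ C ≤ X)
    rw [inf_comm X C, inf_relIndex_right] at h
    rw [← h, show C ⊓ X = A ⊓ C from le_antisymm (le_inf (inf_le_right.trans hXA) inf_le_left)
      (le_inf inf_le_right hX), ← relIndex_ker, toModel_ker, ← hC]
  have hAC : A ⊓ C ≤ B₀ := le_inf inf_le_left fun x hx => by
    show toModel V x ∈ B
    rw [show toModel V x = 1 from MonoidHom.mem_ker.1 ((toModel_ker V).ge hx.2)]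
    exact B.one_mem
  conv_lhs => rw [← hB₀map, card_fixed]
  rw [card_fixed]
  set F := V ⊓ centralizer (B₀ : Set G) with hF
  have hea : Cfsg.IsElementaryAbelian p (B₀ ⊔ F) := by
    rw [← closure_eq B₀, ← closure_eq F, ← Subgroup.closure_union]
    refine Thompson.isEA_closure ?_ ?_
    · rintro a (ha | ha) b (hb | hb)
      · exact Thompson.isEA_commute hA.1 ha.1 hb.1
      · exact mem_centralizer_iff.1 hb.2 a ha
      · exact (mem_centralizer_iff.1 ha.2 b hb).symm
      · exact Thompson.isEA_commute hV ha.1 hb.1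
    · rintro a (ha | ha)
      · exact hA.1.2 a ha.1
      · exact hV.2 a ha.1
  have h1 := Timmesfeld.card_mul_card_le B₀ F
  have h2 : B₀ ⊓ F ≤ V ⊓ centralizer (A : Set G) := fun x hx => ⟨hx.2.1,
    mem_centralizer_iff.2 fun a ha => (Thompson.isEA_commute hA.1 ha hx.1.1).eq⟩
  have h3 := h1.trans (Nat.mul_le_mul (Subgroup.card_le_of_le h2) (hA.2 _ (sup_le (inf_le_left.trans le_sup_left) (inf_le_left.trans le_sup_right)) hea))
  rw [hcard B₀ hAC inf_le_left, hcard A inf_le_left le_rfl, mul_comm (Nat.card (V ⊓ centralizer (A : Set G) : Subgroup G)),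
    mul_assoc, mul_assoc] at h3
  exact Nat.le_of_mul_le_mul_left h3 Nat.card_pos

/-- A largest elementary abelian subgroup induces a best offender. -/
theorem best_of_maxEA (hV : Cfsg.IsElementaryAbelian p V) {A : Subgroup G}
    (hA : A ∈ Cfsg.maxElementaryAbelianSubgroups p G) :
    Cfsg.IsBestOffenderOn p (modV V) (A.map (toModel V)) :=
  best_of_maxEA' V hV ⟨hA.1, fun B _ hB => hA.2 B hB⟩

/-- The image of a group generated by largest elementary abelian subgroups is generated by best offenders. -/
theorem thompson_map_eq_iSup (hV : Cfsg.IsElementaryAbelian p V) :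
    (Cfsg.thompsonSubgroup p G).map (toModel V) =
      ⨆ A : {A : Subgroup (Model V) // A ≤ (Cfsg.thompsonSubgroup p G).map (toModel V) ∧
        Cfsg.IsBestOffenderOn p (modV V) A}, (A : Subgroup (Model V)) := by
  refine le_antisymm ?_ (iSup_le fun A => A.2.1)
  rw [map_le_iff_le_comap]
  refine sSup_le fun A hA => map_le_iff_le_comap.1 ?_
  exact le_iSup_of_le (ι := {A : Subgroup (Model V) // A ≤ (Cfsg.thompsonSubgroup p G).map (toModel V) ∧
    Cfsg.IsBestOffenderOn p (modV V) A})
    ⟨A.map (toModel V), map_mono (le_sSup hA), best_of_maxEA V hV hA⟩ le_rfl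

end Cfsg.Lib.Local.FF
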