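import Cfsg.Agent.Lib.Local.FF.Block

/-!
# Failure of factorization: the direct decomposition into blocks
-/

set_option autoImplicit false
set_option linter.style.haveILetI false

namespace Cfsg.Lib.Local.FF

open Subgroup
open scoped commutatorElement

variable {G : Type*} [Group G] [Finite G] {p : ℕ} [hp : Fact p.Prime] {V H A B : Subgroup G}

theorem block_le_H (hA : IsOne p V H A) : block p H A ≤ H :=
  sup_le ((commutator_core_le hA).trans core_le) hA.1.le

theorem card_block (hs : Setup p V H) (hA : IsOne p V H A) :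
    Nat.card (block p H A) = p * (p ^ 2 - 1) := by
  obtain ⟨-, ⟨e⟩, -⟩ := block_iso hs hA
  rw [Nat.card_congr e.toEquiv, Linear.Two.card_SL_two, ZMod.card]

theorem plane_facts (hs : Setup p V H) (hA : IsOne p V H A) :
    ⁅V, block p H A⁆ ≤ V ∧ Nat.card ↥⁅V, block p H A⁆ = p ^ 2 ∧
      ⁅V, block p H A⁆ ⊓ (V ⊓ centralizer ((block p H A : Subgroup G) : Set G)) = ⊥ ∧
      ⁅V, block p H A⁆ ⊔ (V ⊓ centralizer ((block p H A : Subgroup G) : Set G)) = V ∧
      block p H A ⊓ centralizer ((⁅V, block p H A⁆ : Subgroup G) : Set G) = ⊥ ∧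
      block p H A ≤ normalizer ((⁅V, block p H A⁆ : Subgroup G) : Set G) := by
  obtain ⟨x, -, hEq, -, hd, -, -⟩ := exists_pair hs hA
  rw [hEq]
  refine ⟨Coprime.commutator_le_of_le_normalizer ?_, hd.card, ?_, hd.span, hd.faith, hd.norm⟩
  · rw [← hEq]; exact (block_le_H hA).trans hs.hHV
  · rw [eq_bot_iff, ← hd.free]
    exact inf_le_inf_left _ inf_le_right

theorem block_eq_of_le (hs : Setup p V H) (hA : IsOne p V H A) (hB : IsOne p V H B)
    (h : B ≤ block p H A) : block p H B = block p H A := by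
  refine eq_of_le_of_card_ge (sup_le ?_ h) (by rw [card_block hs hA, card_block hs hB])
  obtain ⟨x, hx, hEq, hx1, hd, hle, hne⟩ := exists_pair hs hA
  rw [commutator_le]
  intro y hy b hb
  have hBA : B ≤ core p H ⊔ A := h.trans (block_le_core_sup hA)
  have hcong : B.map (MulAut.conj y).toMonoidHom ≤ core p H ⊔ A :=
    (conj_le_block (A := B) hy).trans ((block_le_core_sup hB).trans (sup_le le_sup_left hBA))
  have h1 := le_sup_of_congr hs hA hx1 hle hne (hB.conj hs (core_le hy)).1 hcong
    (mem_map_of_mem (MulAut.conj y).toMonoidHom hb)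
  rw [← hEq] at h1
  simp only [MulEquiv.coe_toMonoidHom, MulAut.conj_apply] at h1
  rw [show ⁅y, b⁆ = y * b * y⁻¹ * b⁻¹ from commutatorElement_def y b]
  exact Subgroup.mul_mem _ h1 (Subgroup.inv_mem _ (h hb))

/-- An offender of order `p` is in the block of `A` or has its plane inside the fixed points of the block. -/
theorem dichotomy (hs : Setup p V H) (hA : IsOne p V H A) (hB : IsOne p V H B) :
    B ≤ block p H A ∨
      (block p H B ≤ centralizer ((⁅V, block p H A⁆ : Subgroup G) : Set G) ∧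
        ⁅V, block p H B⁆ ≤ V ⊓ centralizer ((block p H A : Subgroup G) : Set G)) := by
  obtain ⟨hWV, hWc, hWC, hWCV, -, hEW⟩ := plane_facts hs hA
  obtain ⟨hW'V, hW'c, hW'C, hW'CV, -, hEW'⟩ := plane_facts hs hB
  obtain ⟨hW, hC⟩ := core_normalizes hs hA
  obtain ⟨hW', hC'⟩ := core_normalizes hs hB
  set W := ⁅V, block p H A⁆ with hWdef
  set W' := ⁅V, block p H B⁆ with hW'def
  set C := V ⊓ centralizer ((block p H A : Subgroup G) : Set G) with hCdef
  set C' := V ⊓ centralizer ((block p H B : Subgroup G) : Set G) with hC'def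
  have hU : core p H ≤ normalizer ((W ⊓ W' : Subgroup G) : Set G) :=
    le_normalizer_iff.mpr fun x hx u hu =>
      ⟨(mem_normalizer_iff.1 (hW hx) u).1 hu.1, (mem_normalizer_iff.1 (hW' hx) u).1 hu.2⟩
  obtain ⟨i, hi, hUc⟩ := (Nat.dvd_prime_pow hp.out).1
    (hWc ▸ card_dvd_of_le (inf_le_left : W ⊓ W' ≤ W))
  have hi' : i = 0 ∨ i = 1 ∨ i = 2 := by omega
  rcases hi' with rfl | rfl | rfl
  · -- disjoint planes
    rw [pow_zero] at hUc
    have hbot := card_eq_one.1 hUc
    refine Or.inr ⟨?_, ?_⟩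
    · have h1 : W ≤ C' := by
        refine le_inf hWV ?_
        have h2 : W ≤ centralizer ((⁅core p H, B⁆ : Subgroup G) : Set G) := by
          rw [← commutator_eq_bot_iff_le_centralizer, eq_bot_iff, ← hbot]
          exact le_inf (Coprime.commutator_le_of_le_normalizer ((commutator_core_le hB).trans hW))
            ((commutator_mono hWV le_rfl).trans (fixed_block hs hB).1.le)
        exact ((le_inf hWV h2).trans (fixed_block hs hB).2.1.le).trans inf_le_right
      exact le_centralizer_iff.1 (h1.trans inf_le_right)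
    · refine le_inf hW'V ?_
      have h2 : W' ≤ centralizer ((⁅core p H, A⁆ : Subgroup G) : Set G) := by
        rw [← commutator_eq_bot_iff_le_centralizer, eq_bot_iff, ← hbot]
        exact le_inf ((commutator_mono hW'V le_rfl).trans (fixed_block hs hA).1.le)
          (Coprime.commutator_le_of_le_normalizer ((commutator_core_le hA).trans hW'))
      exact ((le_inf hW'V h2).trans (fixed_block hs hA).2.1.le).trans inf_le_right
  · exact (no_invariant_line hs hA inf_le_left (by rw [hUc, pow_one]) hU).elim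
  · -- the same plane
    have hle : W ≤ W' := (eq_of_le_of_card_ge inf_le_left (by rw [hUc, hWc])).ge.trans inf_le_right
    have hWW : W = W' := eq_of_le_of_card_ge hle (by rw [hWc, hW'c])
    have hn : ∀ {X Y : Subgroup G}, X ≤ V → Y ≤ V → Y ≤ normalizer (X : Set G) := fun hX hY y hy =>
      centralizer_le_normalizer _ (mem_centralizer_iff.2 fun z hz =>
        (Thompson.isEA_commute hs.hV (hX hz) (hY hy)).eq)
    have hcard : Nat.card V = p ^ 2 * Nat.card C := by
      rw [← hWc, ← Coprime.card_sup_of_disjoint (hn hWV inf_le_left) (disjoint_iff.2 hWC), hWCV]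
    have hcard' : Nat.card V = p ^ 2 * Nat.card C' := by
      rw [← hW'c, ← Coprime.card_sup_of_disjoint (hn hW'V inf_le_left) (disjoint_iff.2 hW'C), hW'CV]
    have hCC : C = C' := by
      refine (eq_of_le_of_card_ge ?_ ?_).symm
      · refine le_inf inf_le_left ?_
        have h2 : C' ≤ centralizer ((⁅core p H, A⁆ : Subgroup G) : Set G) := by
          rw [← commutator_eq_bot_iff_le_centralizer, eq_bot_iff]
          refine le_trans (le_inf ((commutator_mono inf_le_left le_rfl).trans ((fixed_block hs hA).1.le.trans hle))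
            (Coprime.commutator_le_of_le_normalizer ((commutator_core_le hA).trans hC'))) ?_
          exact hW'C.le
        exact ((le_inf inf_le_left h2).trans (fixed_block hs hA).2.1.le).trans inf_le_right
      · exact (Nat.eq_of_mul_eq_mul_left (pow_pos hp.out.pos 2) (hcard.symm.trans hcard')).le
    -- an offender of the block with the same centre
    obtain ⟨hTc, hT⟩ := hB.line hs
    obtain ⟨⟨w, hw⟩, hw1⟩ := ne_bot_iff_exists_ne_one.1
      (fun h => hp.out.one_lt.ne (by rw [← hTc, h, card_bot]) : ⁅V, B⁆ ≠ ⊥)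
    have hwne : w ≠ 1 := fun h => hw1 (Subtype.ext h)
    have hTW : ⁅V, B⁆ ≤ W := hWW ▸ commutator_mono le_rfl le_sup_right
    obtain ⟨D, hD, hDE, hwD⟩ := block_centre hs hA (hTW hw)
    have hTD : ⁅V, D⁆ = ⁅V, B⁆ := by
      by_contra hne
      have h1 : ¬ ⁅V, D⁆ ≤ ⁅V, B⁆ := fun h => hne (eq_of_le_of_card_ge h (by rw [hTc, (hD.line hs).1]))
      exact hwne (mem_bot.1 ((inf_eq_bot_of_not_le (hD.line hs).1 h1).le ⟨hwD, hw⟩))
    have haxis : ∀ {X : Subgroup G}, IsOne p V H X → ⁅V, X⁆ ≤ W → X ≤ block p H B ∨ X ≤ block p H A →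
        V ⊓ centralizer (X : Set G) = ⁅V, X⁆ ⊔ C := by
      intro X hX hXW hXE
      have hdisj : Disjoint ⁅V, X⁆ C := disjoint_iff.2 (le_bot_iff.1 ((inf_le_inf_right _ hXW).trans hWC.le))
      refine (eq_of_le_of_card_ge (sup_le (hX.line hs).2 ?_) ?_).symm
      · rcases hXE with h | h
        · exact le_inf inf_le_left ((hCC.le.trans inf_le_right).trans (centralizer_le h))
        · exact inf_le_inf_left V (centralizer_le h)
      · rw [Coprime.card_sup_of_disjoint (hn ((hX.line hs).2.trans inf_le_left) inf_le_left) hdisj,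
          (hX.line hs).1]
        refine Nat.le_of_mul_le_mul_left (le_of_eq ?_) hp.out.pos
        rw [← hX.fixed_card, hcard, sq, mul_assoc]
    left
    refine le_of_eq_of_le (eq_of_axis hs hD hB hTD ?_).symm hDE
    rw [haxis hD (hTD ▸ hTW) (Or.inr hDE), haxis hB hTW (Or.inl le_sup_right), hTD]

omit [Finite G] hp in
/-- Elements acting on complementary parts commute. -/
theorem commute_of_split (hs : Setup p V H) {W C : Subgroup G} (hWC : W ⊔ C = V) {x y : G} (hx : x ∈ H)
    (hy : y ∈ H) (hxW : x ∈ normalizer (W : Set G)) (hxC : x ∈ centralizer (C : Set G))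
    (hyW : y ∈ centralizer (W : Set G)) (hyC : y ∈ normalizer (C : Set G)) : x * y = y * x := by
  rw [← commutatorElement_eq_one_iff_mul_comm]
  refine mem_bot.1 (hs.hf.le ⟨?_, ?_⟩)
  · exact H.mul_mem (H.mul_mem (H.mul_mem hx hy) (H.inv_mem hx)) (H.inv_mem hy)
  have h : V ≤ centralizer ({⁅x, y⁆} : Set G) := by
    rw [← hWC]
    refine sup_le (fun w hw => mem_centralizer_singleton_iff.2 ?_) fun c hc => mem_centralizer_singleton_iff.2 ?_
    · have h1 : y * w * y⁻¹ = w := by rw [← mem_centralizer_iff.1 hyW w hw, mul_inv_cancel_right]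
      have h2 : y * (x⁻¹ * w * x) * y⁻¹ = x⁻¹ * w * x := by
        have h3 : x⁻¹ * w * x ∈ W := by
          simpa using (mem_normalizer_iff.1 ((normalizer (W : Set G)).inv_mem hxW) w).1 hw
        rw [← mem_centralizer_iff.1 hyW _ h3, mul_inv_cancel_right]
      have h4 : y⁻¹ * w * y = w := by
        calc y⁻¹ * w * y = y⁻¹ * (y * w * y⁻¹) * y := by rw [h1]
          _ = w := by group
      have : ⁅x, y⁆ * w * ⁅x, y⁆⁻¹ = w := by
        calc ⁅x, y⁆ * w * ⁅x, y⁆⁻¹ = x * (y * (x⁻¹ * (y⁻¹ * w * y) * x) * y⁻¹) * x⁻¹ := by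
              simp only [commutatorElement_def]; group
          _ = w := by rw [h4, h2]; group
      exact (mul_inv_eq_iff_eq_mul.1 this).symm
    · have h1 : x * c * x⁻¹ = c := by rw [← mem_centralizer_iff.1 hxC c hc, mul_inv_cancel_right]
      have h3 : y⁻¹ * c * y ∈ C := by
        simpa using (mem_normalizer_iff.1 ((normalizer (C : Set G)).inv_mem hyC) c).1 hc
      have h2 : x⁻¹ * (y⁻¹ * c * y) * x = y⁻¹ * c * y := by
        calc x⁻¹ * (y⁻¹ * c * y) * x = x⁻¹ * ((y⁻¹ * c * y) * x) := by group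
          _ = x⁻¹ * (x * (y⁻¹ * c * y)) := by rw [mem_centralizer_iff.1 hxC _ h3]
          _ = y⁻¹ * c * y := by group
      have : ⁅x, y⁆ * c * ⁅x, y⁆⁻¹ = c := by
        calc ⁅x, y⁆ * c * ⁅x, y⁆⁻¹ = x * (y * (x⁻¹ * (y⁻¹ * c * y) * x) * y⁻¹) * x⁻¹ := by
              simp only [commutatorElement_def]; group
          _ = x * c * x⁻¹ := by rw [h2]; group
          _ = c := h1
      exact (mul_inv_eq_iff_eq_mul.1 this).symm
  exact mem_centralizer_iff.2 fun v hv => mem_centralizer_singleton_iff.1 (h hv)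

/-- `H` is generated by the offenders of order `p`. -/
theorem Setup.le_of_forall (hs : Setup p V H)
    (hgen : H = ⨆ A : {A : Subgroup G // A ≤ H ∧ Cfsg.IsBestOffenderOn p V A}, (A : Subgroup G))
    {X : Subgroup G} (hX : ∀ B, IsOne p V H B → B ≤ X) : H ≤ X := by
  rw [hgen]
  refine iSup_le fun A => ?_
  obtain ⟨k, B, hB, -, hsup⟩ := (hs.isOff_of_best A.2.1 A.2.2).decomp hs
  rw [← hsup]
  exact iSup_le fun i => hX _ (hB i).2

/-- The splitting off of a block. -/
theorem split (hs : Setup p V H) (hA : IsOne p V H A)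
    (hgen : H = ⨆ A : {A : Subgroup G // A ≤ H ∧ Cfsg.IsBestOffenderOn p V A}, (A : Subgroup G)) :
    ⁅block p H A, H ⊓ centralizer ((⁅V, block p H A⁆ : Subgroup G) : Set G)⁆ = ⊥ ∧
      block p H A ⊔ (H ⊓ centralizer ((⁅V, block p H A⁆ : Subgroup G) : Set G)) = H ∧
      ⁅V, H ⊓ centralizer ((⁅V, block p H A⁆ : Subgroup G) : Set G)⁆ ≤
        V ⊓ centralizer ((block p H A : Subgroup G) : Set G) ∧
      H ≤ normalizer ((block p H A : Subgroup G) : Set G) := by
  obtain ⟨hWV, -, -, hWCV, -, hEW⟩ := plane_facts hs hA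
  set E := block p H A with hEdef
  set W := ⁅V, E⁆ with hWdef
  set C := V ⊓ centralizer (E : Set G) with hCdef
  have hEC : ∀ x ∈ E, x ∈ centralizer (C : Set G) := fun x hx =>
    mem_centralizer_iff.2 fun c hc => (mem_centralizer_iff.1 hc.2 x hx).symm
  have key : ∀ B, IsOne p V H B → B ≤ E ∨ (B ≤ H ⊓ centralizer (W : Set G) ∧ B ≤ centralizer (E : Set G)) := by
    intro B hB
    rcases dichotomy hs hA hB with h | ⟨h1, h2⟩
    · exact Or.inl h
    refine Or.inr ⟨le_inf hB.1.le (le_sup_right.trans h1), fun b hb => mem_centralizer_iff.2 fun x hx => ?_⟩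
    have hbC : B ≤ normalizer (C : Set G) := le_normalizer_of_commutator_le
      ((commutator_mono inf_le_left le_sup_right).trans h2)
    exact commute_of_split hs hWCV (block_le_H hA hx) (hB.1.le hb) (hEW hx) (hEC x hx)
      (h1 (mem_sup_right hb)) (hbC hb)
  have hnorm : H ≤ normalizer (E : Set G) := hs.le_of_forall hgen fun B hB => by
    rcases key B hB with h | ⟨-, h⟩
    · exact h.trans le_normalizer
    · exact h.trans (centralizer_le_normalizer _)
  have hHC : H ≤ normalizer (C : Set G) := le_normalizer_fixed hs.hHV hnorm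
  refine ⟨?_, ?_, ?_, hnorm⟩
  · rw [commutator_eq_bot_iff_le_centralizer]
    exact fun x hx => mem_centralizer_iff.2 fun y (hy : y ∈ H ⊓ centralizer (W : Set G)) =>
      (commute_of_split hs hWCV (block_le_H hA hx) hy.1
      (hEW hx) (hEC x hx) hy.2 (hHC hy.1)).symm
  · refine le_antisymm (sup_le (block_le_H hA) inf_le_left) (hs.le_of_forall hgen fun B hB => ?_)
    rcases key B hB with h | ⟨h, -⟩
    · exact h.trans le_sup_left
    · exact h.trans le_sup_right
  · rw [commutator_le]
    intro v hv h hh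
    rw [← hWCV] at hv
    have hn : C ≤ normalizer (W : Set G) := fun y hy => centralizer_le_normalizer _
      (mem_centralizer_iff.2 fun z hz => (Thompson.isEA_commute hs.hV (hWV hz) hy.1).eq)
    obtain ⟨w, hw, c, hc, rfl⟩ := Coprime.exists_mul_of_mem_sup hn hv
    have hcc : ⁅c, h⁆ ∈ C := by
      rw [commutatorElement_def, show c * h * c⁻¹ * h⁻¹ = c * (h * c⁻¹ * h⁻¹) by group]
      exact C.mul_mem hc ((mem_normalizer_iff.1 (hHC hh.1) _).1 (C.inv_mem hc))
    have hwh : w * h = h * w := mem_centralizer_iff.1 hh.2 w hw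
    have hwc : w * ⁅c, h⁆ * w⁻¹ = ⁅c, h⁆ := by
      rw [(Thompson.isEA_commute hs.hV (hWV hw) hcc.1).eq, mul_inv_cancel_right]
    have : ⁅w * c, h⁆ = ⁅c, h⁆ := by
      calc ⁅w * c, h⁆ = w * ⁅c, h⁆ * w⁻¹ * (w * h * w⁻¹ * h⁻¹) := by simp only [commutatorElement_def]; group
        _ = ⁅c, h⁆ := by rw [hwc, hwh]; group
    rw [this]
    exact hcc

end Cfsg.Lib.Local.FF
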