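import Mathlib.GroupTheory.PGroup
import Mathlib.GroupTheory.OrderOfElement
import Mathlib.Algebra.Group.End
import Mathlib.Tactic.Group

/-!
# Transvections of an elementary abelian two-group, and operators with large rank

* `Tv.inverted`: in a group of odd order normalized by a transvection, the nontrivial inverted
  elements form one pair `w, w⁻¹`;
* `range_card`: an operator of order `2 ^ k` has `|[U, φ]| ≥ 2 ^ (2 ^ (k - 1))`.
-/

set_option autoImplicit false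

namespace Cfsg.Lib.Local.FF

universe u

variable {U : Type u} [CommGroup U]

/-- A transvection with centre `u`. -/
structure Tv (τ : MulAut U) (u : U) : Prop where
  fix : τ u = u
  move : ∀ v, τ v = v ∨ τ v = v * u

theorem Tv.conj {τ : MulAut U} {u : U} (h : Tv τ u) (g : MulAut U) : Tv (g * τ * g⁻¹) (g u) := by
  refine ⟨?_, fun v => ?_⟩
  · simp only [MulAut.mul_apply, MulAut.inv_apply_self, h.fix]
  · simp only [MulAut.mul_apply]
    rcases h.move (g⁻¹ v) with e | e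
    · exact Or.inl (by rw [e, MulAut.apply_inv_self])
    · exact Or.inr (by rw [e, map_mul, MulAut.apply_inv_self])

variable (h2 : ∀ v : U, v * v = 1)

include h2 in
theorem Tv.sq {τ : MulAut U} {u : U} (h : Tv τ u) : τ * τ = 1 := by
  refine MulEquiv.ext fun v => ?_
  rw [MulAut.mul_apply, MulAut.one_apply]
  rcases h.move v with e | e
  · rw [e, e]
  · rw [e, map_mul, h.fix, e, mul_assoc, h2, mul_one]

theorem Tv.commute {τ σ : MulAut U} {u u' : U} (hτ : Tv τ u) (hσ : Tv σ u') (h1 : τ u' = u')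
    (h1' : σ u = u) : τ * σ = σ * τ := by
  refine MulEquiv.ext fun v => ?_
  simp only [MulAut.mul_apply]
  rcases hτ.move v with e | e <;> rcases hσ.move v with e' | e' <;>
    simp only [e, e', map_mul, h1, h1', mul_right_comm]

include h2 in
theorem Tv.pow_four {τ σ : MulAut U} {u u' : U} (hτ : Tv τ u) (hσ : Tv σ u') (h1 : τ u' = u') :
    (τ * σ) ^ 4 = 1 := by
  by_cases h1' : σ u = u
  · have hc : Commute τ σ := hτ.commute hσ h1 h1'
    rw [show (4 : ℕ) = 2 * 2 from rfl, pow_mul, hc.mul_pow, pow_two τ, pow_two σ, hτ.sq h2,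
      hσ.sq h2, mul_one, one_pow]
  have hσu : σ u = u * u' := (hσ.move u).resolve_left h1'
  have hsq : ∀ v, ((τ * σ) ^ 2) v = v ∨ ((τ * σ) ^ 2) v = v * u' := by
    intro v
    rw [pow_two]
    simp only [MulAut.mul_apply]
    have hu : τ (σ u) = u * u' := by rw [hσu, map_mul, hτ.fix, h1]
    have hu' : τ (σ u') = u' := by rw [hσ.fix, h1]
    have hcan : ∀ a b : U, a * (a * b) = b := fun a b => by rw [← mul_assoc, h2, one_mul]
    rcases hσ.move v with e | e <;> rcases hτ.move v with e' | e' <;>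
      simp only [e, e', map_mul, h1, hσ.fix, hσu, hτ.fix] <;>
      first
        | exact Or.inl rfl
        | exact Or.inr rfl
        | (right; ac_rfl)
        | (left; simp [mul_assoc, mul_comm, mul_left_comm, hcan, h2]; done)
        | (right; simp [mul_assoc, mul_comm, mul_left_comm, hcan, h2])
  have hfix : ((τ * σ) ^ 2) u' = u' := by
    rw [pow_two]; simp only [MulAut.mul_apply, hσ.fix, h1]
  refine MulEquiv.ext fun v => ?_
  rw [show (4 : ℕ) = 2 + 2 from rfl, pow_add, MulAut.mul_apply, MulAut.one_apply]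
  rcases hsq v with e | e
  · rw [e, e]
  · rw [e, map_mul, hfix, e, mul_assoc, h2, mul_one]

theorem eq_one_of_pow_two_pow {G : Type*} [Group G] {x : G} {n : ℕ} (hodd : Odd (orderOf x))
    (hx : x ^ 2 ^ n = 1) : x = 1 :=
  orderOf_eq_one_iff.1 (Nat.eq_one_of_dvd_coprimes
    ((Nat.coprime_two_left.2 hodd).pow_left n) (orderOf_dvd_of_pow_eq_one hx) dvd_rfl)

include h2 in
/-- Transvections with product of odd order move each other's centres. -/
theorem Tv.moves {τ σ : MulAut U} {u u' : U} (hτ : Tv τ u) (hσ : Tv σ u')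
    (hodd : Odd (orderOf (τ * σ))) (hne : τ * σ ≠ 1) : τ u' = u' * u ∧ σ u = u * u' := by
  have hinv : σ * τ = (τ * σ)⁻¹ := by
    rw [mul_inv_rev, inv_eq_of_mul_eq_one_right (hτ.sq h2), inv_eq_of_mul_eq_one_right (hσ.sq h2)]
  refine ⟨(hτ.move u').resolve_left fun h => hne ?_, (hσ.move u).resolve_left fun h => hne ?_⟩
  · exact eq_one_of_pow_two_pow (n := 2) hodd (hτ.pow_four h2 hσ h)
  · have h4 := hσ.pow_four h2 hτ h
    rw [hinv] at h4
    have := eq_one_of_pow_two_pow (n := 2) (x := (τ * σ)⁻¹) (by rwa [orderOf_inv]) h4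
    rwa [inv_eq_one] at this

include h2 in
/-- The inverted elements of a group of odd order normalized by a transvection. -/
theorem Tv.inverted [Finite U] {τ : MulAut U} {u : U} (hτ : Tv τ u) (Y : Subgroup (MulAut U))
    (hY : Odd (Nat.card Y)) {w w' : MulAut U} (hw : w ∈ Y) (hw' : w' ∈ Y) (hw1 : w ≠ 1) (hw1' : w' ≠ 1)
    (hi : τ * w * τ = w⁻¹) (hi' : τ * w' * τ = w'⁻¹) : w' = w ∨ w' = w⁻¹ := by
  haveI : Finite (MulAut U) := Finite.of_injective (fun e : MulAut U => (e : U → U)) DFunLike.coe_injective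
  have hodd : ∀ x ∈ Y, Odd (orderOf x) := fun x hx =>
    hY.of_dvd_nat (by rw [← Subgroup.orderOf_mk x hx]; exact orderOf_dvd_natCard _)
  have htv : ∀ x ∈ Y, τ * x * τ = x⁻¹ → ∃ u₁, Tv (τ * x) u₁ := by
    intro x hx hxi
    obtain ⟨n, hn⟩ := hodd x hx
    set h := x ^ (n + 1) with hh
    have hsq : h * h = x := by
      rw [hh, ← pow_add, show n + 1 + (n + 1) = orderOf x + 1 by omega, pow_succ, pow_orderOf_eq_one,
        one_mul]
    have hth : τ * h * τ = h⁻¹ := by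
      have hconj : τ * h * τ = (τ * x * τ⁻¹) ^ (n + 1) := by
        rw [conj_pow, ← hh, inv_eq_of_mul_eq_one_right (hτ.sq h2)]
      rw [hconj, inv_eq_of_mul_eq_one_right (hτ.sq h2), hxi, inv_pow]
    refine ⟨h⁻¹ u, ?_⟩
    have e : τ * x = h⁻¹ * τ * h⁻¹⁻¹ := by
      rw [inv_inv, ← hth, ← hsq]
      calc τ * (h * h) = τ * h * (τ * τ) * h := by rw [hτ.sq h2, mul_one, mul_assoc]
        _ = τ * h * τ * τ * h := by simp only [mul_assoc]
    rw [e]
    exact hτ.conj h⁻¹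
  obtain ⟨u₁, h₁⟩ := htv w hw hi
  obtain ⟨u₂, h₂⟩ := htv w' hw' hi'
  set z₁ := τ * w with hz₁
  set z₂ := τ * w' with hz₂
  have e1 : τ * z₁ = w := by rw [hz₁, ← mul_assoc, hτ.sq h2, one_mul]
  have e2 : τ * z₂ = w' := by rw [hz₂, ← mul_assoc, hτ.sq h2, one_mul]
  obtain ⟨hτu₁, hz₁u⟩ := hτ.moves h2 h₁ (e1 ▸ hodd w hw) (e1 ▸ hw1)
  obtain ⟨hτu₂, hz₂u⟩ := hτ.moves h2 h₂ (e2 ▸ hodd w' hw') (e2 ▸ hw1')
  have e12 : z₁ * z₂ = w⁻¹ * w' := by rw [hz₁, hz₂, ← mul_assoc, hi]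
  by_cases h12 : w' = w
  · exact Or.inl h12
  have hm12 : w⁻¹ * w' ∈ Y := mul_mem (inv_mem hw) hw'
  obtain ⟨hz₁u₂, hz₂u₁⟩ := h₁.moves h2 h₂ (e12 ▸ hodd _ hm12)
    (e12 ▸ fun h => h12 (inv_mul_eq_one.1 h).symm)
  have h₃ : Tv (τ * z₁ * τ⁻¹) (τ u₁) := h₁.conj τ
  have hτinv : τ⁻¹ = τ := inv_eq_of_mul_eq_one_right (hτ.sq h2)
  have c1 : (τ * z₁ * τ⁻¹) u₂ = u₂ := by
    rw [hτinv]
    simp only [MulAut.mul_apply]
    rw [hτu₂, map_mul, hz₁u₂, hz₁u, show u₂ * u₁ * (u * u₁) = u₂ * u * (u₁ * u₁) by ac_rfl, h2,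
      mul_one, map_mul, hτu₂, hτ.fix, mul_assoc, h2, mul_one]
  have c2 : z₂ (τ u₁) = τ u₁ := by
    rw [hτu₁, map_mul, hz₂u₁, hz₂u, show u₁ * u₂ * (u * u₂) = u₁ * u * (u₂ * u₂) by ac_rfl, h2,
      mul_one]
  have e3 : τ * z₁ * τ⁻¹ * z₂ = w * w' := by
    rw [hτinv, hz₁, hz₂, ← mul_assoc τ τ w, hτ.sq h2, one_mul, mul_assoc w τ (τ * w'),
      ← mul_assoc τ τ w', hτ.sq h2, one_mul]
  have hcomm : Commute (τ * z₁ * τ⁻¹) z₂ := h₃.commute h₂ c1 c2
  have hsq : (w * w') ^ 2 ^ 1 = 1 := by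
    rw [pow_one, ← e3, hcomm.mul_pow, pow_two, pow_two, h₃.sq h2, h₂.sq h2, mul_one]
  exact Or.inr (eq_inv_of_mul_eq_one_right (eq_one_of_pow_two_pow (hodd _ (mul_mem hw hw')) hsq))

/-- The map `v ↦ v · φ v`. -/
def dmap (φ : MulAut U) : U →* U where
  toFun v := v * φ v
  map_one' := by simp
  map_mul' a b := by rw [map_mul]; ac_rfl

theorem dmap_commute (φ : MulAut U) (v : U) : dmap φ (φ v) = φ (dmap φ v) := by
  simp [dmap]

include h2 in
theorem iterate_dmap (φ : MulAut U) :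
    ∀ (j : ℕ) (v : U), ((dmap φ)^[2 ^ j]) v = v * (φ ^ 2 ^ j) v := by
  intro j
  induction j with
  | zero => intro v; simp [dmap]
  | succ j ih =>
    intro v
    rw [pow_succ, mul_two, Function.iterate_add_apply, ih, ih, map_mul, ← MulAut.mul_apply, ← pow_add]
    rw [show v * (φ ^ 2 ^ j) v * ((φ ^ 2 ^ j) v * (φ ^ (2 ^ j + 2 ^ j)) v) =
      v * ((φ ^ 2 ^ j) v * (φ ^ 2 ^ j) v) * (φ ^ (2 ^ j + 2 ^ j)) v by ac_rfl, h2, mul_one]

/-- The images of the iterates. -/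
def dimg (φ : MulAut U) : ℕ → Subgroup U
  | 0 => ⊤
  | j + 1 => (dimg φ j).map (dmap φ)

theorem mem_dimg (φ : MulAut U) (j : ℕ) (v : U) : ((dmap φ)^[j]) v ∈ dimg φ j := by
  induction j with
  | zero => exact Subgroup.mem_top _
  | succ j ih => rw [Function.iterate_succ_apply']; exact ⟨_, ih, rfl⟩

theorem exists_of_mem_dimg (φ : MulAut U) :
    ∀ (j : ℕ) {x : U}, x ∈ dimg φ j → ∃ v, ((dmap φ)^[j]) v = x := by
  intro j
  induction j with
  | zero => intro x _; exact ⟨x, rfl⟩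
  | succ j ih =>
    rintro x ⟨y, hy, rfl⟩
    obtain ⟨v, rfl⟩ := ih hy
    exact ⟨v, Function.iterate_succ_apply' _ _ _⟩

theorem dimg_succ_le (φ : MulAut U) : ∀ j, dimg φ (j + 1) ≤ dimg φ j := by
  intro j
  induction j with
  | zero => exact le_top
  | succ j ih => exact Subgroup.map_mono ih

theorem dimg_antitone (φ : MulAut U) {i j : ℕ} (h : i ≤ j) : dimg φ j ≤ dimg φ i := by
  induction h with
  | refl => exact le_rfl
  | step _ ih => exact (dimg_succ_le φ _).trans ih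

theorem dimg_stable (φ : MulAut U) {j : ℕ} (h : dimg φ (j + 1) = dimg φ j) :
    ∀ i, dimg φ (j + i) = dimg φ j := by
  intro i
  induction i with
  | zero => rfl
  | succ i ih => exact (congrArg (Subgroup.map (dmap φ)) ih).trans h

include h2 in
theorem dimg_eq_bot (φ : MulAut U) {k : ℕ} (hk : φ ^ 2 ^ k = 1) : dimg φ (2 ^ k) = ⊥ := by
  rw [eq_bot_iff]
  intro x hx
  obtain ⟨v, rfl⟩ := exists_of_mem_dimg φ _ hx
  rw [iterate_dmap h2, hk, MulAut.one_apply, h2]
  exact one_mem _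

include h2 in
/-- The chain of images descends strictly until the last nontrivial term. -/
theorem two_mul_card_dimg [Finite U] (φ : MulAut U) {k j : ℕ} (hk : φ ^ 2 ^ (k + 1) = 1)
    (hne : φ ^ 2 ^ k ≠ 1) (hj : j ≤ 2 ^ k) :
    2 * Nat.card (dimg φ (j + 1)) ≤ Nat.card (dimg φ j) := by
  have hle := dimg_succ_le φ j
  obtain ⟨c, hc⟩ := Subgroup.card_dvd_of_le hle
  have hne' : dimg φ (j + 1) ≠ dimg φ j := by
    intro h
    have hs := dimg_stable φ h (2 ^ (k + 1) - j)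
    rw [Nat.add_sub_cancel' (hj.trans (Nat.pow_le_pow_right (by norm_num) k.le_succ)),
      dimg_eq_bot h2 φ hk] at hs
    refine hne (MulEquiv.ext fun v => ?_)
    have hv := dimg_antitone φ hj (mem_dimg φ (2 ^ k) v)
    rw [← hs, Subgroup.mem_bot, iterate_dmap h2] at hv
    rw [MulAut.one_apply]
    calc (φ ^ 2 ^ k) v = v * v * (φ ^ 2 ^ k) v := by rw [h2, one_mul]
      _ = v := by rw [mul_assoc, hv, mul_one]
  rcases c with _ | _ | c
  · simp [(Nat.card_pos (α := dimg φ j)).ne'] at hc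
  · exact absurd (Subgroup.eq_of_le_of_card_ge hle (by omega)) hne'
  · rw [hc, Nat.mul_comm 2]; exact Nat.mul_le_mul_left _ (by omega)

include h2 in
/-- An operator of order `2 ^ (k + 1)` has large commutator. -/
theorem range_card [Finite U] (φ : MulAut U) {k : ℕ} (hk : φ ^ 2 ^ (k + 1) = 1)
    (hne : φ ^ 2 ^ k ≠ 1) : ∀ i, i ≤ 2 ^ k → 2 ^ (i) * Nat.card (dimg φ (2 ^ k)) ≤
      Nat.card (dimg φ (2 ^ k - i)) := by
  intro i
  induction i with
  | zero => intro _; simp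
  | succ i ih =>
    intro hi
    have h := two_mul_card_dimg h2 φ hk hne (j := 2 ^ k - (i + 1)) (Nat.sub_le _ _)
    rw [show 2 ^ k - (i + 1) + 1 = 2 ^ k - i by omega] at h
    calc 2 ^ (i + 1) * _ = 2 * (2 ^ i * Nat.card (dimg φ (2 ^ k))) := by rw [pow_succ]; ring
      _ ≤ 2 * Nat.card (dimg φ (2 ^ k - i)) := Nat.mul_le_mul_left 2 (ih (by omega))
      _ ≤ _ := h

end Cfsg.Lib.Local.FF
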