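import Cfsg.Agent.Lib.Local.FF.Basic
import Cfsg.Agent.Lib.Local.FF.Transvection

/-!
# Abelian offenders in characteristic two are elementary

`|A| |C_V(A)| ≤ |V|` for abelian two-subgroups `A`, with strict inequality unless `A` is elementary.
-/

set_option autoImplicit false
set_option linter.style.haveILetI false

namespace Cfsg.Lib.Local.FF

open Subgroup
open scoped commutatorElement

variable {G : Type*} [Group G] [Finite G] {V H A : Subgroup G}

omit [Finite G] in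
theorem normalizerMonoidHom_apply_coe {U : Subgroup G} (g : normalizer (U : Set G)) (v : U) :
    ((U.normalizerMonoidHom g v : U) : G) = g * v * (g : G)⁻¹ := rfl

theorem Setup.strict_of_not_elementary (hs : Setup 2 V H) (hAH : A ≤ H) (hAp : IsPGroup 2 A)
    [IsMulCommutative A] {g : G} (hg : g ∈ A) (hg2 : g ^ 2 ≠ 1) :
    ∃ (B : Subgroup G) (m : ℕ), B < A ∧ Nat.card A = m * Nat.card B ∧
      m * Nat.card (V ⊓ centralizer (A : Set G) : Subgroup G) <
        Nat.card (V ⊓ centralizer (B : Set G) : Subgroup G) := by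
  classical
  haveI : Fact (Nat.Prime 2) := ⟨Nat.prime_two⟩
  have hAcomm : ∀ x ∈ A, ∀ y ∈ A, x * y = y * x := fun x hx y hy =>
    congrArg Subtype.val (mul_comm' (⟨x, hx⟩ : A) ⟨y, hy⟩)
  -- an involution that is a square
  obtain ⟨j, hj⟩ := hAp ⟨g, hg⟩
  have hj' : g ^ 2 ^ j = 1 := congrArg Subtype.val hj
  obtain ⟨i, hi, hi1⟩ : ∃ i, g ^ 2 ^ (i + 2) = 1 ∧ g ^ 2 ^ (i + 1) ≠ 1 := by
    have hex : ∃ n, g ^ 2 ^ n = 1 := ⟨j, hj'⟩
    have h2n : 2 ≤ Nat.find hex := by
      by_contra hlt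
      push Not at hlt
      have h1 := Nat.find_spec hex
      interval_cases h : Nat.find hex
      · exact hg2 (by rw [pow_zero, pow_one] at h1; rw [h1, one_pow])
      · exact hg2 (by simpa using h1)
    refine ⟨Nat.find hex - 2, ?_, ?_⟩
    · rw [Nat.sub_add_cancel h2n]; exact Nat.find_spec hex
    · exact Nat.find_min hex (by omega)
  set c := g ^ 2 ^ i with hcdef
  set z := c ^ 2 with hzdef
  have hcA : c ∈ A := pow_mem hg _
  have hzA : z ∈ A := pow_mem hcA _
  have hz1 : z ≠ 1 := by rw [hzdef, hcdef, ← pow_mul, ← pow_succ]; exact hi1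
  have hz2 : z ^ 2 = 1 := by
    rw [hzdef, hcdef, ← pow_mul, ← pow_mul, show 2 ^ i * (2 * 2) = 2 ^ (i + 2) by rw [pow_add]; norm_num]
    exact hi
  set Q := core 2 H with hQdef
  have hAQ : A ≤ normalizer (Q : Set G) := hAH.trans le_normalizer_core
  have hcop : (Nat.card A).Coprime (Nat.card Q) := coprime_core hAp
  -- a cocyclic subgroup on whose fixed points `z` acts nontrivially
  obtain ⟨B, hB, hBY⟩ : ∃ B ∈ Coprime.cocyclic A,
      ¬ Q ⊓ centralizer (B : Set G) ≤ centralizer ({z} : Set G) := by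
    by_contra hcon
    push Not at hcon
    have hzQ : z ∈ H ⊓ centralizer (Q : Set G) := by
      refine ⟨hAH hzA, mem_centralizer_iff.2 fun q hq => ?_⟩
      have hle : Q ≤ centralizer ({z} : Set G) := by
        rw [← Coprime.iSup_centralizer_cocyclic_eq hAQ hcop]
        exact iSup₂_le fun B hB => hcon B hB
      exact mem_centralizer_singleton_iff.1 (hle hq)
    have hz' : zpowers z = ⊥ := eq_bot_of_le_core (p := 2) (H := H)
      (hAp.to_le (zpowers_le.2 hzA)) (zpowers_le.2 (hs.inf_centralizer_core hzQ))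
    exact hz1 (zpowers_eq_bot.1 hz')
  obtain ⟨hBA, a, ha, hsup⟩ := hB
  set Y := Q ⊓ centralizer (B : Set G) with hY
  have hzB : z ∉ B := fun h => hBY (inf_le_right.trans
    (centralizer_le (Set.singleton_subset_iff.2 h)))
  -- the order of `a` modulo `B`
  have hexm : ∃ m, a ^ 2 ^ m ∈ B := by
    obtain ⟨m, hm⟩ := hAp ⟨a, ha⟩
    exact ⟨m, by rw [show a ^ 2 ^ m = 1 from congrArg Subtype.val hm]; exact one_mem B⟩
  set k := Nat.find hexm with hkdef
  have hk : a ^ 2 ^ k ∈ B := Nat.find_spec hexm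
  have hmem : ∀ x ∈ A, ∃ n : ℕ, ∃ b ∈ B, x = a ^ n * b := by
    intro x hx
    rw [← hsup, sup_comm] at hx
    have hnorm : B ≤ normalizer ((zpowers a : Subgroup G) : Set G) := fun b hb =>
      centralizer_le_normalizer _ (mem_centralizer_iff.2 (by
        rintro _ ⟨n, rfl⟩
        exact hAcomm _ (A.zpow_mem ha n) _ (hBA hb)))
    obtain ⟨y, hy, b, hb, rfl⟩ := Coprime.exists_mul_of_mem_sup hnorm hx
    obtain ⟨n, rfl⟩ := (isOfFinOrder_of_finite a).mem_powers_iff_mem_zpowers.2 hy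
    exact ⟨n, b, hb, rfl⟩
  have hcommA : ∀ (n : ℕ) {b : G}, b ∈ B → Commute (a ^ n) b := fun n b hb =>
    hAcomm _ (pow_mem ha n) _ (hBA hb)
  have hdvd : ∀ n : ℕ, a ^ n ∈ B ↔ 2 ^ k ∣ n := by
    intro n
    refine ⟨fun hn => ?_, fun ⟨t, ht⟩ => ?_⟩
    · set d := Nat.gcd n (2 ^ k) with hd
      have hdB : a ^ d ∈ B := by
        have hz : a ^ (d : ℤ) ∈ B := by
          rw [hd, Nat.gcd_eq_gcd_ab, zpow_add, zpow_mul, zpow_mul, zpow_natCast, zpow_natCast]
          exact mul_mem (zpow_mem hn _) (zpow_mem hk _)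
        rwa [zpow_natCast] at hz
      obtain ⟨l, hl, hdl⟩ := (Nat.dvd_prime_pow Nat.prime_two).1 (Nat.gcd_dvd_right n (2 ^ k))
      rw [hd, hdl] at hdB
      have hkl : k ≤ l := Nat.find_min' hexm hdB
      have : 2 ^ k ∣ d := by rw [hd, hdl]; exact pow_dvd_pow 2 hkl
      exact this.trans (Nat.gcd_dvd_left n (2 ^ k))
    · rw [ht, pow_mul]; exact pow_mem hk t
  -- `z` is the involution of `A / B`
  obtain ⟨n, b₀, hb₀, hc⟩ := hmem c hcA
  have hzc : z = a ^ (n * 2) * b₀ ^ 2 := by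
    rw [hzdef, hc, (hcommA n hb₀).mul_pow, ← pow_mul]
  have hn2 : ¬ 2 ^ k ∣ n * 2 := fun h => hzB (by
    rw [hzc]; exact mul_mem ((hdvd _).2 h) (pow_mem hb₀ 2))
  have hn4 : 2 ^ k ∣ n * 2 * 2 := by
    refine (hdvd _).1 ?_
    have e : z ^ 2 = a ^ (n * 2 * 2) * (b₀ ^ 2) ^ 2 := by
      rw [hzc, (hcommA (n * 2) (pow_mem hb₀ 2)).mul_pow, ← pow_mul]
    rw [hz2] at e
    rw [eq_mul_inv_of_mul_eq e.symm, one_mul]
    exact inv_mem (pow_mem (pow_mem hb₀ 2) 2)
  obtain ⟨k', hk'⟩ : ∃ k', k = k' + 2 := by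
    refine ⟨k - 2, (Nat.sub_add_cancel ?_).symm⟩
    by_contra hk2
    push Not at hk2
    interval_cases k
    · exact hn2 (by simp)
    · exact hn2 ⟨n, by ring⟩
  obtain ⟨t, ht⟩ : ∃ t, n * 2 = 2 ^ (k' + 1) * (2 * t + 1) := by
    obtain ⟨s, hs'⟩ := hn4
    have h1 : n * 2 = 2 ^ (k' + 1) * s := by
      have : n * 2 * 2 = 2 ^ (k' + 1) * s * 2 := by
        rw [hs', hk', show k' + 2 = k' + 1 + 1 from rfl, pow_succ]; ring
      omega
    rcases Nat.even_or_odd s with ⟨r, rfl⟩ | ⟨r, rfl⟩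
    · exact absurd ⟨r, by rw [h1, hk', show k' + 2 = k' + 1 + 1 from rfl, pow_succ 2 (k' + 1)]; ring⟩ hn2
    · exact ⟨r, h1⟩
  -- the index
  have hcard : Nat.card A = 2 ^ k * Nat.card B := by
    let f : Fin (2 ^ k) × B → A := fun x => ⟨a ^ (x.1 : ℕ) * x.2, mul_mem (pow_mem ha _) (hBA x.2.2)⟩
    have hf : Function.Bijective f := by
      constructor
      · rintro ⟨s, b⟩ ⟨s', b'⟩ h
        have e : a ^ (s : ℕ) * b = a ^ (s' : ℕ) * b' := congrArg Subtype.val h
        have key : ∀ (s s' : Fin (2 ^ k)) (b b' : B), (s : ℕ) ≤ s' →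
            a ^ (s : ℕ) * b = a ^ (s' : ℕ) * b' → (s : ℕ) = s' := by
          intro s s' b b' hle e
          have hm : a ^ ((s' : ℕ) - s) ∈ B := by
            rw [show (s' : ℕ) = s + ((s' : ℕ) - s) by omega, pow_add, mul_assoc, mul_left_cancel_iff] at e
            rw [eq_mul_inv_of_mul_eq e.symm]
            exact mul_mem b.2 (inv_mem b'.2)
          have := Nat.eq_zero_of_dvd_of_lt ((hdvd _).1 hm) (by omega)
          omega
        have hss : (s : ℕ) = s' := (le_total (s : ℕ) s').elim (fun h => key s s' b b' h e)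
          fun h => (key s' s b' b h e.symm).symm
        rw [hss] at e
        exact Prod.ext (Fin.ext hss) (Subtype.ext (mul_left_cancel e))
      · rintro ⟨x, hx⟩
        obtain ⟨m, b, hb, rfl⟩ := hmem x hx
        refine ⟨(⟨m % 2 ^ k, Nat.mod_lt _ (by positivity)⟩,
          ⟨a ^ (2 ^ k * (m / 2 ^ k)) * b, mul_mem ((hdvd _).2 (dvd_mul_right _ _)) hb⟩), Subtype.ext ?_⟩
        show a ^ (m % 2 ^ k) * (a ^ (2 ^ k * (m / 2 ^ k)) * b) = a ^ m * b
        rw [← mul_assoc, ← pow_add, Nat.mod_add_div]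
    rw [← Nat.card_congr (Equiv.ofBijective f hf), Nat.card_prod, Nat.card_fin]
  refine ⟨B, 2 ^ k, lt_of_le_of_ne hBA fun h => hzB (h ▸ hzA), hcard, ?_⟩
  -- the action on `U = C_V(B)`
  set F := V ⊓ centralizer (A : Set G) with hF
  set U := V ⊓ centralizer (B : Set G) with hU
  letI : CommGroup U :=
    { (inferInstance : Group U) with
      mul_comm := fun x y => Subtype.ext (Thompson.isEA_commute hs.hV x.2.1 y.2.1).eq }
  have hU2 : ∀ v : U, v * v = 1 := fun v => Subtype.ext (by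
    rw [Subgroup.coe_mul, ← pow_two]; exact hs.hV.2 v v.2.1)
  have hNU : ∀ x ∈ H, (∀ b ∈ B, x * b = b * x) → x ∈ normalizer (U : Set G) := by
    intro x hx hxB
    refine mem_normalizer_fintype fun v hv => ⟨(mem_normalizer_iff.1 (hs.hHV hx) v).1 hv.1,
      mem_centralizer_iff.2 fun b hb => ?_⟩
    have e1 : b * v = v * b := mem_centralizer_iff.1 hv.2 b hb
    have e2 : Commute b x := (hxB b hb).symm
    have e3 : Commute b (x * v * x⁻¹) := ((e2.mul_right e1).mul_right e2.inv_right)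
    exact e3.eq
  have hAN : A ≤ normalizer (U : Set G) := fun x hx => hNU x (hAH hx) fun b hb => hAcomm x hx b (hBA hb)
  have hYH : Y ≤ H := inf_le_left.trans core_le
  have hYN : Y ≤ normalizer (U : Set G) := fun y hy => hNU y (hYH hy) fun b hb =>
    (mem_centralizer_iff.1 hy.2 b hb).symm
  let ψ := U.normalizerMonoidHom
  set φ : MulAut U := ψ ⟨a, hAN ha⟩ with hφ
  have hψB : ∀ b (hb : b ∈ B), ψ ⟨b, hAN (hBA hb)⟩ = 1 := by
    intro b hb
    refine MulEquiv.ext fun v => Subtype.ext ?_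
    show b * v * b⁻¹ = v
    rw [mem_centralizer_iff.1 v.2.2 b hb, mul_inv_cancel_right]
  have hψpow : ∀ (s : ℕ) {b : G} (hb : b ∈ B),
      ψ ⟨a ^ s * b, hAN (mul_mem (pow_mem ha s) (hBA hb))⟩ = φ ^ s := by
    intro s b hb
    have e : (⟨a ^ s * b, hAN (mul_mem (pow_mem ha s) (hBA hb))⟩ : normalizer (U : Set G)) =
      ⟨a, hAN ha⟩ ^ s * ⟨b, hAN (hBA hb)⟩ := Subtype.ext (by simp)
    rw [e, map_mul, map_pow, hψB b hb, mul_one]
  have hφk : φ ^ 2 ^ k = 1 := by
    have h := hψpow 0 hk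
    have e : (⟨a ^ 0 * a ^ 2 ^ k, hAN (mul_mem (pow_mem ha 0) (hBA hk))⟩ : normalizer (U : Set G)) =
      ⟨a, hAN ha⟩ ^ 2 ^ k := Subtype.ext (by simp)
    rw [e, map_pow, pow_zero] at h
    exact h
  set ζ : MulAut U := ψ ⟨z, hAN hzA⟩ with hζ
  have hζφ : ζ = φ ^ 2 ^ (k' + 1) := by
    have hz' : (⟨z, hAN hzA⟩ : normalizer (U : Set G)) =
        ⟨a ^ (n * 2) * b₀ ^ 2, hAN (mul_mem (pow_mem ha _) (hBA (pow_mem hb₀ 2)))⟩ := Subtype.ext hzc
    rw [hζ, hz', hψpow _ (pow_mem hb₀ 2), ht, mul_add, mul_one, pow_add, ← mul_assoc, ← pow_succ,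
      ← show k = k' + 1 + 1 from hk', pow_mul, hφk, one_pow, one_mul]
  -- `z` does not centralize `Y` on `U`
  have hAY : A ≤ normalizer (Y : Set G) := by
    refine le_normalizer_iff.mpr fun x hx y hy => ⟨(mem_normalizer_iff.1 (hAQ hx) y).1 hy.1,
      mem_centralizer_iff.2 fun b hb => ?_⟩
    have e2 : Commute b x := hAcomm b (hBA hb) x hx
    exact ((e2.mul_right (mem_centralizer_iff.1 hy.2 b hb)).mul_right e2.inv_right).eq
  obtain ⟨y, hy, hyU⟩ : ∃ y ∈ Y, ¬ ∀ v ∈ U, ⁅y, z⁆ * v = v * ⁅y, z⁆ := by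
    by_contra hcon
    push Not at hcon
    have hzY : zpowers z ≤ normalizer (Y : Set G) := zpowers_le.2 (hAY hzA)
    set K := ⁅Y, zpowers z⁆ with hK
    have hKY : K ≤ Y := Coprime.commutator_le_of_le_normalizer hzY
    have hzz : ∀ w ∈ zpowers z, w = 1 ∨ w = z := by
      intro w hw
      obtain ⟨q, rfl⟩ := mem_zpowers_iff.1 hw
      have hzz2 : z ^ (2 : ℤ) = 1 := by rw [show (2 : ℤ) = ((2 : ℕ) : ℤ) from rfl, zpow_natCast, hz2]
      rcases Int.even_or_odd q with ⟨r, rfl⟩ | ⟨r, rfl⟩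
      · exact Or.inl (by rw [← two_mul, zpow_mul, hzz2, one_zpow])
      · exact Or.inr (by rw [zpow_add, zpow_mul, hzz2, one_zpow, one_mul, zpow_one])
    have hKU : U ≤ centralizer (K : Set G) := by
      rw [le_centralizer_iff, hK, commutator_le]
      intro x hx w hw
      refine mem_centralizer_iff.2 fun v hv => ?_
      rcases hzz w hw with rfl | rfl
      · simp
      · exact (hcon x hx v hv).symm
    have hK1 : ⁅V, K⁆ = ⊥ := by
      refine Coprime.commutator_eq_bot_of_AxB V B K (isPGroup_of_hV hs) (hAp.to_le hBA) ?_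
        ((hBA.trans hAH).trans hs.hHV) ((hKY.trans hYH).trans hs.hHV) (hKY.trans inf_le_right) hKU
      exact Core.coprime_card_of_le (hKY.trans inf_le_left) core_coprime
    have hKbot : K = ⊥ := hs.eq_bot_of_centralizes (hKY.trans hYH)
      (le_centralizer_iff.1 (commutator_eq_bot_iff_le_centralizer.1 hK1))
    refine hBY fun x hx => mem_centralizer_singleton_iff.2 ?_
    have := commutator_eq_bot_iff_le_centralizer.1 hKbot hx
    exact (mem_centralizer_iff.1 this z (mem_zpowers z)).symm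
  set Ybar : Subgroup (MulAut U) := (Y.subgroupOf (normalizer (U : Set G))).map ψ with hYbar
  have hYodd : Odd (Nat.card Ybar) := by
    have h1 : Odd (Nat.card Y) := Nat.coprime_two_left.1
      (Core.coprime_card_of_le (inf_le_left : Y ≤ Q) core_coprime).symm
    refine h1.of_dvd_nat ?_
    rw [← Nat.card_congr (subgroupOfEquivOfLe hYN).toEquiv]
    exact Subgroup.card_map_dvd _ _
  have hζ2 : ζ * ζ = 1 := by
    rw [hζ, ← map_mul]
    refine (congrArg ψ (Subtype.ext ?_)).trans (map_one ψ)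
    show z * z = 1
    rw [← pow_two, hz2]
  have hcy : ⁅y, z⁆ ∈ Y := Coprime.commutator_le_of_le_normalizer hAY (commutator_mem_commutator hy hzA)
  set w := ψ ⟨⁅y, z⁆, hYN hcy⟩ with hw
  have hwY : w ∈ Ybar := ⟨_, hcy, rfl⟩
  have hw1 : w ≠ 1 := by
    intro h
    refine hyU fun v hv => ?_
    have h' := congrArg (fun e : MulAut U => ((e ⟨v, hv⟩ : U) : G)) h
    change ⁅y, z⁆ * v * ⁅y, z⁆⁻¹ = v at h'
    exact mul_inv_eq_iff_eq_mul.1 h'
  have hζne : ζ ≠ 1 := by
    intro h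
    apply hw1
    have e : (⟨⁅y, z⁆, hYN hcy⟩ : normalizer (U : Set G)) =
        ⟨y, hYN hy⟩ * ⟨z, hAN hzA⟩ * ⟨y, hYN hy⟩⁻¹ * ⟨z, hAN hzA⟩⁻¹ := Subtype.ext rfl
    rw [hw, e, map_mul, map_mul, map_mul, map_inv, map_inv, ← hζ, h, mul_one, inv_one, mul_one,
      mul_inv_cancel]
  have hφ1 : φ ^ 2 ^ (k' + 1) ≠ 1 := hζφ ▸ hζne
  -- the commutator map
  have hker : Nat.card (dmap φ).ker = Nat.card F := by
    refine Nat.card_congr
      { toFun := fun v => ⟨((v : U) : G), (v : U).2.1, mem_centralizer_iff.2 fun x hx => ?_⟩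
        invFun := fun v => ⟨⟨v, v.2.1, centralizer_le hBA v.2.2⟩, ?_⟩
        left_inv := fun v => rfl
        right_inv := fun v => rfl }
    · obtain ⟨m, b, hb, rfl⟩ := hmem x hx
      have h1 : (v : U) * φ v = 1 := v.2
      have h3 : φ v = (v : U) := by
        exact (mul_left_cancel (h1.trans (hU2 (v : U)).symm))
      have h4 : Commute a ((v : U) : G) := by
        have h5 := congrArg Subtype.val h3
        change a * ((v : U) : G) * a⁻¹ = ((v : U) : G) at h5
        exact mul_inv_eq_iff_eq_mul.1 h5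
      exact (((h4.pow_left m).mul_left (mem_centralizer_iff.1 (v : U).2.2 b hb))).eq
    · show (⟨v, _⟩ : U) * φ ⟨v, _⟩ = 1
      have h3 : φ ⟨v, v.2.1, centralizer_le hBA v.2.2⟩ = ⟨v, v.2.1, centralizer_le hBA v.2.2⟩ := by
        refine Subtype.ext ?_
        show a * v * a⁻¹ = v
        rw [mem_centralizer_iff.1 v.2.2 a ha, mul_inv_cancel_right]
      rw [h3, hU2]
  have hsplit : Nat.card U = Nat.card F * Nat.card (dimg φ 1) := by
    rw [← hker, show dimg φ 1 = (dmap φ).range from (MonoidHom.range_eq_map _).symm,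
      ← Subgroup.index_ker, Subgroup.card_mul_index]
  have hφk' : φ ^ 2 ^ (k' + 1 + 1) = 1 := by rw [show k' + 1 + 1 = k from hk'.symm]; exact hφk
  have hchain := range_card hU2 φ hφk' hφ1
  -- the last term is nontrivial
  have hlast : 2 ≤ Nat.card (dimg φ (2 ^ (k' + 1))) := by
    by_contra hlt
    push Not at hlt
    have h1 : dimg φ (2 ^ (k' + 1)) = ⊥ :=
      card_eq_one.1 (by have := Nat.card_pos (α := dimg φ (2 ^ (k' + 1))); omega)
    refine hφ1 (MulEquiv.ext fun v => ?_)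
    have hv := mem_dimg φ (2 ^ (k' + 1)) v
    rw [h1, mem_bot, iterate_dmap hU2] at hv
    rw [MulAut.one_apply]
    exact mul_left_cancel (hv.trans (hU2 v).symm)
  have hbig : 2 ^ (2 ^ (k' + 1)) ≤ Nat.card (dimg φ 1) := by
    have h := hchain (2 ^ (k' + 1) - 1) (Nat.sub_le _ _)
    rw [show 2 ^ (k' + 1) - (2 ^ (k' + 1) - 1) = 1 by
      have := Nat.one_le_two_pow (n := k' + 1); omega] at h
    refine le_trans ?_ h
    calc 2 ^ 2 ^ (k' + 1) = 2 ^ (2 ^ (k' + 1) - 1) * 2 := by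
          rw [← pow_succ, Nat.sub_add_cancel Nat.one_le_two_pow]
      _ ≤ _ := Nat.mul_le_mul_left _ hlast
  rw [hsplit, mul_comm]
  refine Nat.mul_lt_mul_of_pos_left ?_ Nat.card_pos
  rcases Nat.eq_zero_or_pos k' with rfl | hk0
  swap
  · refine lt_of_lt_of_le (Nat.pow_lt_pow_right one_lt_two ?_) hbig
    have h := Nat.lt_two_pow_self (n := k')
    rw [hk', pow_succ]
    omega
  -- order four: `z` is a transvection
  by_contra hle
  push Not at hle
  rw [hk'] at hle
  norm_num at hle hbig hφ1 hζφ hφk' hlast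
  have h12 := two_mul_card_dimg hU2 φ (k := 1) (by simpa using hφk') (by simpa using hφ1) (j := 1) (by norm_num)
  have h23 := two_mul_card_dimg hU2 φ (k := 1) (by simpa using hφk') (by simpa using hφ1) (j := 2) (by norm_num)
  norm_num at h12 h23
  have hc2 : Nat.card (dimg φ 2) = 2 := by omega
  have hc3 : dimg φ 3 = ⊥ := card_eq_one.1 (by have := Nat.card_pos (α := dimg φ 3); omega)
  obtain ⟨u, hu, hune⟩ : ∃ u ∈ dimg φ 2, u ≠ 1 := by
    refine (Subgroup.bot_or_exists_ne_one _).resolve_left fun h => ?_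
    rw [h, card_bot] at hc2
    exact absurd hc2 (by norm_num)
  have huniq : ∀ x ∈ dimg φ 2, x = 1 ∨ x = u := by
    intro x hx
    by_contra hne
    push Not at hne
    obtain ⟨h1, h1'⟩ := hne
    have h3 : ({1, u, x} : Finset U).card = 3 := by
      rw [Finset.card_insert_of_notMem (by simp [Ne.symm hune, Ne.symm h1]),
        Finset.card_insert_of_notMem (by simp [Ne.symm h1']), Finset.card_singleton]
    have h4 : ({1, u, x} : Finset U).card ≤ Nat.card (dimg φ 2) := by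
      rw [← Nat.card_eq_finsetCard]
      refine Nat.card_le_card_of_injective (fun e => (⟨e.1, ?_⟩ : dimg φ 2))
        fun e e' h => Subtype.ext (congrArg (fun q : dimg φ 2 => (q : U)) h)
      obtain ⟨e, he⟩ := e
      simp only [Finset.mem_insert, Finset.mem_singleton] at he
      rcases he with rfl | rfl | rfl
      exacts [one_mem _, hu, hx]
    omega
  have hfix : φ u = u := by
    have h3 : dmap φ u ∈ dimg φ 3 := ⟨u, hu, rfl⟩
    rw [hc3, mem_bot] at h3
    exact mul_left_cancel (h3.trans (hU2 u).symm)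
  have htv : Tv ζ u := by
    refine ⟨by rw [hζφ, pow_two, MulAut.mul_apply, hfix, hfix], fun v => ?_⟩
    have hv := mem_dimg φ 2 v
    rw [show ((dmap φ)^[2]) v = v * (φ ^ 2) v from iterate_dmap hU2 φ 1 v, ← hζφ] at hv
    rcases huniq _ hv with h | h
    · exact Or.inl (mul_left_cancel (h.trans (hU2 v).symm))
    · refine Or.inr ?_
      rw [← h, ← mul_assoc, hU2, one_mul]
  have hinv : ∀ {x : MulAut U}, ζ * x * ζ = x⁻¹ → ζ * (φ * x * φ⁻¹) * ζ = (φ * x * φ⁻¹)⁻¹ := by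
    intro x hx
    have hcφ : Commute ζ φ := by rw [hζφ]; exact (Commute.refl φ).pow_left 2
    calc ζ * (φ * x * φ⁻¹) * ζ = (ζ * φ) * x * (φ⁻¹ * ζ) := by group
      _ = (φ * ζ) * x * (ζ * φ⁻¹) := by rw [hcφ.eq, hcφ.inv_right.symm.eq]
      _ = φ * (ζ * x * ζ) * φ⁻¹ := by group
      _ = _ := by rw [hx]; group
  have hwi : ζ * w * ζ = w⁻¹ := by
    rw [hw, hζ, ← map_mul, ← map_mul, ← map_inv]
    refine congrArg ψ (Subtype.ext ?_)
    show z * ⁅y, z⁆ * z = ⁅y, z⁆⁻¹
    have hzi : z⁻¹ = z := inv_eq_of_mul_eq_one_right (by rw [← pow_two, hz2])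
    rw [commutatorElement_inv, commutatorElement_def, commutatorElement_def, hzi]
    calc z * (y * z * y⁻¹ * z) * z = z * y * z * y⁻¹ * (z * z) := by group
      _ = z * y * z * y⁻¹ := by rw [← pow_two, hz2, mul_one]
  have hwφ : φ * w * φ⁻¹ ∈ Ybar := by
    refine ⟨⟨a * ⁅y, z⁆ * a⁻¹, hYN ((mem_normalizer_iff.1 (hAY ha) _).1 hcy)⟩,
      (mem_normalizer_iff.1 (hAY ha) _).1 hcy, ?_⟩
    rw [hw, hφ, ← map_inv, ← map_mul, ← map_mul]
    rfl
  have hne' : φ * w * φ⁻¹ ≠ 1 := fun h => hw1 (by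
    rwa [mul_inv_eq_one, mul_eq_left] at h)
  haveI : Finite (MulAut U) :=
    Finite.of_injective (fun e : MulAut U => (e : U → U)) DFunLike.coe_injective
  have hsq : φ ^ 2 * w * (φ ^ 2)⁻¹ = w := by
    have e : φ ^ 2 * w * (φ ^ 2)⁻¹ = φ * (φ * w * φ⁻¹) * φ⁻¹ := by rw [pow_two]; group
    rcases htv.inverted hU2 Ybar hYodd hwY hwφ hw1 hne' hwi (hinv hwi) with h | h
    · rw [e, h, h]
    · rw [e, h, show φ * w⁻¹ * φ⁻¹ = (φ * w * φ⁻¹)⁻¹ by group, h, inv_inv]
  rw [← hζφ, inv_eq_of_mul_eq_one_right hζ2, hwi] at hsq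
  have hw2 : w ^ 2 ^ 1 = 1 := by
    rw [pow_one, pow_two]
    nth_rewrite 2 [← hsq]
    exact mul_inv_cancel w
  exact hw1 (eq_one_of_pow_two_pow (hYodd.of_dvd_nat
    (by rw [← Subgroup.orderOf_mk w hwY]; exact orderOf_dvd_natCard _)) hw2)

/-- `|A| |C_V(A)| ≤ |V|` for an abelian two-subgroup, strictly unless it is elementary. -/
theorem Setup.abelian_card_le (hs : Setup 2 V H) (hAH : A ≤ H) (hAp : IsPGroup 2 A)
    [hAc : IsMulCommutative A] :
    Nat.card A * Nat.card (V ⊓ centralizer (A : Set G) : Subgroup G) ≤ Nat.card V ∧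
      (Nat.card A * Nat.card (V ⊓ centralizer (A : Set G) : Subgroup G) = Nat.card V →
        Cfsg.IsElementaryAbelian 2 A) := by
  haveI : Fact (Nat.Prime 2) := ⟨Nat.prime_two⟩
  revert hAc hAH hAp
  induction A using WellFoundedLT.induction with
  | ind A ih =>
    intro hAH hAp hAc
    by_cases hea : ∀ g ∈ A, g ^ 2 = 1
    · exact ⟨hs.card_le hAH ⟨hAc, hea⟩, fun _ => ⟨hAc, hea⟩⟩
    push Not at hea
    obtain ⟨g, hg, hg2⟩ := hea
    obtain ⟨B, m, hlt, hcard, hstrict⟩ := hs.strict_of_not_elementary hAH hAp hg hg2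
    haveI : IsMulCommutative B := ⟨⟨fun x y => Subtype.ext ((congrArg Subtype.val
      (mul_comm' (⟨(x : G), hlt.le x.2⟩ : A) ⟨(y : G), hlt.le y.2⟩) : (x : G) * y = y * x))⟩⟩
    have hB := (ih B hlt (hlt.le.trans hAH) (hAp.to_le hlt.le)).1
    have h : Nat.card A * Nat.card (V ⊓ centralizer (A : Set G) : Subgroup G) < Nat.card V := by
      rw [hcard, mul_comm m, mul_assoc]
      exact lt_of_lt_of_le (Nat.mul_lt_mul_of_pos_left hstrict Nat.card_pos) hB
    exact ⟨h.le, fun e => absurd e h.ne⟩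

end Cfsg.Lib.Local.FF
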