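import Cfsg.Agent.Lib.Coprime.PGroupAction
import Cfsg.Agent.Lib.Coprime.Generation
import Cfsg.Agent.Lib.Core.Cores
import Cfsg.Agent.Lib.Thompson.Basic
import Cfsg.Prelude.Def_PLocal

/-!
# Best offenders in a group with self-centralizing `p'`-core

For `H` acting faithfully on the elementary abelian `p`-group `V` with `C_H(O_{p'}(H)) ≤ O_{p'}(H)`:
`|A| |C_V(A)| ≤ |V|` for elementary abelian `p`-subgroups `A` (`card_le`), with equality exactly for
best offenders, and a best offender is generated by best offenders of order `p`.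
-/

set_option autoImplicit false
set_option linter.style.haveILetI false

namespace Cfsg.Lib.Local.FF

open Subgroup
open scoped commutatorElement

variable {G : Type*} [Group G] [Finite G] {p : ℕ} [hp : Fact p.Prime] {V H A : Subgroup G}

/-- The hypotheses on the pair `(V, H)`. -/
structure Setup (p : ℕ) (V H : Subgroup G) : Prop where
  hV : Cfsg.IsElementaryAbelian p V
  hHV : H ≤ normalizer (V : Set G)
  hf : H ⊓ centralizer (V : Set G) = ⊥
  hQ : centralizer (Cfsg.pPrimeCore p ↥H : Set ↥H) ≤ Cfsg.pPrimeCore p ↥H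

/-- `O_{p'}(H)` inside the ambient group. -/
abbrev core (p : ℕ) (H : Subgroup G) : Subgroup G := (Cfsg.pPrimeCore p ↥H).map H.subtype

omit [Finite G] hp in
theorem core_le : core p H ≤ H := map_subtype_le _

omit hp in
theorem core_coprime : (Nat.card (core p H)).Coprime p := by
  rw [Core.card_map_subtype]
  exact Core.pPrimeCore_coprime p ↥H

omit hp in
theorem le_normalizer_core : H ≤ normalizer ((core p H : Subgroup G) : Set G) := by
  refine le_normalizer_iff.mpr fun h hh x hx => ?_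
  obtain ⟨y, hy, rfl⟩ := hx
  exact ⟨_, (inferInstance : (Cfsg.pPrimeCore p ↥H).Normal).conj_mem y hy ⟨h, hh⟩, rfl⟩

omit hp in
theorem Setup.inf_centralizer_core (hs : Setup p V H) :
    H ⊓ centralizer ((core p H : Subgroup G) : Set G) ≤ core p H := by
  intro x hx
  exact ⟨⟨x, hx.1⟩, hs.hQ (mem_centralizer_iff.2 fun q hq =>
    Subtype.ext (mem_centralizer_iff.1 hx.2 _ ⟨q, hq, rfl⟩)), rfl⟩

theorem eq_bot_of_le_core (hA : IsPGroup p A) (h : A ≤ core p H) : A = ⊥ := by
  obtain ⟨n, hn⟩ := IsPGroup.iff_card.1 hA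
  refine card_eq_one.1 (Nat.eq_one_of_dvd_coprimes (core_coprime (p := p) (H := H)).symm ?_ (card_dvd_of_le h) |>
    fun h1 => h1)
  rw [hn]
  rcases n with _ | n
  · simp
  · exfalso
    have h1 : p ∣ Nat.card (core p H) := (dvd_pow_self p (Nat.succ_ne_zero n)).trans (hn ▸ card_dvd_of_le h)
    exact hp.out.one_lt.ne' (Nat.eq_one_of_dvd_coprimes (core_coprime (p := p) (H := H)) h1 dvd_rfl)

omit hp in
theorem coprime_core (hA : IsPGroup p A) [Fact p.Prime] : (Nat.card A).Coprime (Nat.card (core p H)) := by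
  obtain ⟨n, hn⟩ := IsPGroup.iff_card.1 hA
  rw [hn]
  exact (core_coprime (p := p) (H := H)).symm.pow_left n

omit [Finite G] hp in
theorem Setup.eq_bot_of_centralizes (hs : Setup p V H) (hAH : A ≤ H) (h : A ≤ centralizer (V : Set G)) :
    A = ⊥ := le_bot_iff.1 (hs.hf ▸ le_inf hAH h)

omit [Finite G] hp in
theorem Setup.commutator_ne_bot (hs : Setup p V H) (hAH : A ≤ H) (hA : A ≠ ⊥) : ⁅V, A⁆ ≠ ⊥ := fun h => by
  rw [commutator_eq_bot_iff_le_centralizer] at h
  exact hA (hs.eq_bot_of_centralizes hAH (le_centralizer_iff.1 h))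

omit [Finite G] hp in
theorem Setup.isEA_of_best (hs : Setup p V H) (hAH : A ≤ H) (hA : Cfsg.IsBestOffenderOn p V A) :
    Cfsg.IsElementaryAbelian p A := by
  have hc : ⁅A, A⁆ = ⊥ := hs.eq_bot_of_centralizes
    (commutator_le.2 fun a ha b hb => H.mul_mem (H.mul_mem (H.mul_mem (hAH ha) (hAH hb))
      (H.inv_mem (hAH ha))) (H.inv_mem (hAH hb))) hA.2.1
  refine ⟨⟨⟨fun a b => Subtype.ext ?_⟩⟩, fun a ha => ?_⟩
  · exact mem_centralizer_iff.1 ((commutator_eq_bot_iff_le_centralizer.1 hc) b.2) a a.2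
  · exact mem_bot.1 (hs.hf ▸ (⟨H.pow_mem (hAH ha) p, hA.2.2 a ha⟩ :
      a ^ p ∈ H ⊓ centralizer (V : Set G)))

theorem isPGroup_of_hV (hs : Setup p V H) : IsPGroup p V := PGroup.isPGroup_of_isElementaryAbelian hs.hV

theorem card_inf_centralizer_bot :
    Nat.card (V ⊓ centralizer ((⊥ : Subgroup G) : Set G) : Subgroup G) = Nat.card V := by
  rw [inf_eq_left.2 fun v _ => mem_centralizer_iff.2 fun x hx => by rw [mem_bot.1 hx, one_mul, mul_one]]

/-- A hyperplane avoiding a given nontrivial subgroup, with more fixed points. -/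
theorem Setup.exists_hyperplane (hs : Setup p V H) (hAH : A ≤ H) (hA : Cfsg.IsElementaryAbelian p A)
    {A₁ : Subgroup G} (h1A : A₁ ≤ A) (h1 : A₁ ≠ ⊥) :
    ∃ B : Subgroup G, B ≤ A ∧ ¬ A₁ ≤ B ∧ Nat.card A = p * Nat.card B ∧
      p * Nat.card (V ⊓ centralizer (A : Set G) : Subgroup G) ≤
        Nat.card (V ⊓ centralizer (B : Set G) : Subgroup G) := by
  haveI := hA.1
  set Q := core p H with hQdef
  have hAp : IsPGroup p A := PGroup.isPGroup_of_isElementaryAbelian hA
  have hAQ : A ≤ normalizer (Q : Set G) := hAH.trans le_normalizer_core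
  obtain ⟨B, hB, hB1, hBY⟩ : ∃ B ∈ Coprime.cocyclic A, ¬ A₁ ≤ B ∧
      ¬ Q ⊓ centralizer (B : Set G) ≤ centralizer (A : Set G) := by
    by_contra hcon
    push Not at hcon
    refine h1 (eq_bot_of_le_core (hAp.to_le h1A) ((le_inf (h1A.trans hAH) ?_).trans
      hs.inf_centralizer_core))
    rw [le_centralizer_iff, ← hQdef, ← Coprime.iSup_centralizer_cocyclic_eq hAQ (coprime_core hAp)]
    refine iSup₂_le fun B hB => ?_
    by_cases h : A₁ ≤ B
    · exact inf_le_right.trans (centralizer_le h)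
    · exact (hcon B hB h).trans (centralizer_le h1A)
  obtain ⟨hBA, a, ha, hsup⟩ := hB
  have haB : a ∉ B := fun h => hB1 (by
    rw [sup_eq_left.2 (zpowers_le.2 h)] at hsup
    exact hsup.symm ▸ h1A)
  have ha1 : a ≠ 1 := fun h => haB (h ▸ B.one_mem)
  have hord : Nat.card (zpowers a) = p := by rw [Nat.card_zpowers, orderOf_eq_prime (hA.2 a ha) ha1]
  have hdisj : Disjoint (zpowers a) B := by
    rw [disjoint_iff]
    haveI : Fact (Nat.card (zpowers a)).Prime := ⟨hord ▸ hp.out⟩
    refine ((inf_le_left : zpowers a ⊓ B ≤ zpowers a).lt_or_eq).elim (fun hlt => ?_) fun he => ?_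
    · rcases (Subgroup.eq_bot_or_eq_top_of_prime_card ((zpowers a ⊓ B).subgroupOf (zpowers a))) with h | h
      · exact disjoint_iff.1 (subgroupOf_eq_bot.1 h) |> fun h' => by
          rwa [inf_eq_left.2 (inf_le_left : zpowers a ⊓ B ≤ zpowers a)] at h'
      · exact absurd (le_antisymm inf_le_left (subgroupOf_eq_top.1 h)) hlt.ne
    · exact absurd ((he.ge.trans inf_le_right) (mem_zpowers a)) haB
  have hnorm : B ≤ normalizer ((zpowers a : Subgroup G) : Set G) := fun b hb =>
    centralizer_le_normalizer _ (mem_centralizer_iff.2 (by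
      rintro _ ⟨n, rfl⟩
      exact (Thompson.isEA_commute hA (A.zpow_mem ha n) (hBA hb)).eq))
  have hcard : Nat.card A = p * Nat.card B := by
    rw [← hsup, sup_comm, Coprime.card_sup_of_disjoint hnorm hdisj, hord]
  refine ⟨B, hBA, hB1, hcard, ?_⟩
  -- `A` has fewer fixed points
  set Y := Q ⊓ centralizer (B : Set G) with hY
  set F := V ⊓ centralizer (A : Set G)
  set F' := V ⊓ centralizer (B : Set G)
  have hFF : F ≤ F' := inf_le_inf_left _ (centralizer_le hBA)
  have hlt : F < F' := by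
    refine hFF.lt_of_ne fun he => hBY ?_
    have hYH : Y ≤ H := inf_le_left.trans core_le
    have hAY : A ≤ normalizer (Y : Set G) := by
      refine le_normalizer_iff.mpr fun x hx y hy => ⟨?_, mem_centralizer_iff.2 fun b hb => ?_⟩
      · exact (mem_normalizer_iff.1 (hAQ hx) y).1 hy.1
      · have h2 := mem_centralizer_iff.1 hy.2 b hb
        have h3 := (Thompson.isEA_commute hA hx (hBA hb)).eq
        calc b * (x * y * x⁻¹) = x * (b * y) * x⁻¹ := by
              rw [← mul_assoc, ← mul_assoc, ← h3, mul_assoc x b]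
          _ = x * (y * b) * x⁻¹ := by rw [h2]
          _ = x * y * (b * x⁻¹) := by group
          _ = x * y * x⁻¹ * b := by
              rw [show b * x⁻¹ = x⁻¹ * b by rw [mul_inv_eq_iff_eq_mul, mul_assoc, ← h3, inv_mul_cancel_left]]
              group
    set K := ⁅Y, A⁆ with hK
    have hKY : K ≤ Y := Coprime.commutator_le_of_le_normalizer hAY
    have hK1 : ⁅V, K⁆ = ⊥ := by
      refine Coprime.commutator_eq_bot_of_AxB V B K (isPGroup_of_hV hs) (hAp.to_le hBA) ?_
        ((hBA.trans hAH).trans hs.hHV) ((hKY.trans hYH).trans hs.hHV) (hKY.trans inf_le_right) ?_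
      · exact Core.coprime_card_of_le (hKY.trans inf_le_left) core_coprime
      · rw [show V ⊓ centralizer (B : Set G) = F from he.symm, le_centralizer_iff, hK, commutator_le]
        intro y hy x hx
        refine mem_centralizer_iff.2 fun v hv => ?_
        have hvx : x * v = v * x := mem_centralizer_iff.1 hv.2 x hx
        have hw : y⁻¹ * v * y ∈ F := by
          have hyH : y ∈ H := hYH hy
          refine he.symm.le ⟨?_, mem_centralizer_iff.2 fun b hb => ?_⟩
          · simpa using (mem_normalizer_iff.1 (hs.hHV (H.inv_mem hyH)) v).1 hv.1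
          · have h2 : b * y = y * b := mem_centralizer_iff.1 hy.2 b hb
            have h3 : b * v = v * b := mem_centralizer_iff.1 hv.2 b (hBA hb)
            calc b * (y⁻¹ * v * y) = y⁻¹ * (y * b) * y⁻¹ * v * y := by group
              _ = y⁻¹ * (b * y) * y⁻¹ * v * y := by rw [h2]
              _ = y⁻¹ * (b * v) * y := by group
              _ = y⁻¹ * (v * b) * y := by rw [h3]
              _ = y⁻¹ * v * (b * y) := by group
              _ = y⁻¹ * v * y * b := by rw [h2]; group
        have hwx : x * (y⁻¹ * v * y) = y⁻¹ * v * y * x := mem_centralizer_iff.1 hw.2 x hx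
        rw [commutatorElement_def]
        calc v * (y * x * y⁻¹ * x⁻¹) = y * (y⁻¹ * v * y * x) * y⁻¹ * x⁻¹ := by group
          _ = y * (x * (y⁻¹ * v * y)) * y⁻¹ * x⁻¹ := by rw [hwx]
          _ = y * x * y⁻¹ * (v * x⁻¹) := by group
          _ = y * x * y⁻¹ * x⁻¹ * v := by
              rw [show v * x⁻¹ = x⁻¹ * v by rw [mul_inv_eq_iff_eq_mul, mul_assoc, ← hvx, inv_mul_cancel_left]]
              group
    have hKbot : K = ⊥ := hs.eq_bot_of_centralizes (hKY.trans hYH)
      (le_centralizer_iff.1 (commutator_eq_bot_iff_le_centralizer.1 hK1))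
    exact commutator_eq_bot_iff_le_centralizer.1 hKbot
  obtain ⟨i, hi⟩ := IsPGroup.iff_card.1 ((isPGroup_of_hV hs).to_le (inf_le_left : F ≤ V))
  obtain ⟨j, hj⟩ := IsPGroup.iff_card.1 ((isPGroup_of_hV hs).to_le (inf_le_left : F' ≤ V))
  have hc : Nat.card F < Nat.card F' := by
    by_contra hge
    exact hlt.ne (eq_of_le_of_card_ge hlt.le (not_lt.1 hge))
  rw [hi, hj] at hc ⊢
  rw [← pow_succ']
  exact Nat.pow_le_pow_right hp.out.pos ((Nat.pow_lt_pow_iff_right hp.out.one_lt).1 hc)

/-- `|A| |C_V(A)| ≤ |V|`. -/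
theorem Setup.card_le (hs : Setup p V H) (hAH : A ≤ H) (hA : Cfsg.IsElementaryAbelian p A) :
    Nat.card A * Nat.card (V ⊓ centralizer (A : Set G) : Subgroup G) ≤ Nat.card V := by
  induction A using WellFoundedLT.induction with
  | ind A ih =>
    by_cases h0 : A = ⊥
    · subst h0; rw [card_bot, one_mul, card_inf_centralizer_bot]
    obtain ⟨B, hBA, hnle, hc, hf⟩ := hs.exists_hyperplane hAH hA le_rfl h0
    have hih := ih B (lt_of_le_of_ne hBA fun h => hnle h.ge) (hBA.trans hAH)
      (PGroup.isElementaryAbelian_of_le hA hBA)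
    calc Nat.card A * _ = Nat.card B * (p * Nat.card (V ⊓ centralizer (A : Set G) : Subgroup G)) := by
          rw [hc]; ring
      _ ≤ _ := (Nat.mul_le_mul_left _ hf).trans hih

/-- An offender attaining the bound. -/
structure IsOff (p : ℕ) (V H A : Subgroup G) : Prop where
  le : A ≤ H
  ea : Cfsg.IsElementaryAbelian p A
  card : Nat.card A * Nat.card (V ⊓ centralizer (A : Set G) : Subgroup G) = Nat.card V

theorem Setup.isOff_of_best (hs : Setup p V H) (hAH : A ≤ H) (hA : Cfsg.IsBestOffenderOn p V A) :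
    IsOff p V H A := by
  refine ⟨hAH, hs.isEA_of_best hAH hA, le_antisymm (hs.card_le hAH (hs.isEA_of_best hAH hA)) ?_⟩
  have h := hA.1 ⊥ bot_le
  rwa [card_bot, one_mul, card_inf_centralizer_bot] at h

theorem IsOff.best (hs : Setup p V H) (hA : IsOff p V H A) : Cfsg.IsBestOffenderOn p V A := by
  refine ⟨fun B hB => ?_, ?_, fun a ha => ?_⟩
  · rw [hA.card]
    exact hs.card_le (hB.trans hA.le) (PGroup.isElementaryAbelian_of_le hA.ea hB)
  · rw [commutator_le]
    intro a ha b hb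
    rw [commutatorElement_eq_one_iff_mul_comm.2 (Thompson.isEA_commute hA.ea ha hb).eq]
    exact one_mem _
  · rw [hA.ea.2 a ha]
    exact one_mem _

theorem IsOff.hyperplane (hs : Setup p V H) (hA : IsOff p V H A) {A₁ : Subgroup G} (h1A : A₁ ≤ A)
    (h1 : A₁ ≠ ⊥) : ∃ B, B ≤ A ∧ ¬ A₁ ≤ B ∧ Nat.card A = p * Nat.card B ∧ IsOff p V H B := by
  obtain ⟨B, hBA, hnle, hc, hf⟩ := hs.exists_hyperplane hA.le hA.ea h1A h1
  have hB := PGroup.isElementaryAbelian_of_le hA.ea hBA
  refine ⟨B, hBA, hnle, hc, hBA.trans hA.le, hB, le_antisymm (hs.card_le (hBA.trans hA.le) hB) ?_⟩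
  rw [← hA.card, hc, mul_comm p, mul_assoc]
  exact Nat.mul_le_mul_left _ hf

/-- An offender of order `p`. -/
def IsOne (p : ℕ) (V H A : Subgroup G) : Prop := IsOff p V H A ∧ Nat.card A = p

theorem IsOff.decomp (hs : Setup p V H) (hA : IsOff p V H A) :
    ∃ (k : ℕ) (B : Fin k → Subgroup G), (∀ i, B i ≤ A ∧ IsOne p V H (B i)) ∧ iSupIndep B ∧
      ⨆ i, B i = A := by
  induction A using WellFoundedLT.induction with
  | ind A ih =>
    by_cases h0 : A = ⊥
    · exact ⟨0, Fin.elim0, fun i => i.elim0, fun i => i.elim0, by simp [h0]⟩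
    obtain ⟨A₁, h1A, hn1, hc1, hA₁⟩ := hA.hyperplane hs le_rfl h0
    obtain ⟨k, B, hB, hind, hsup⟩ := ih A₁ (lt_of_le_of_ne h1A fun h => hn1 h.ge) hA₁
    obtain ⟨b, hbA, hb, hbn⟩ : ∃ b, b ≤ A ∧ IsOne p V H b ∧ ¬ b ≤ A₁ := by
      by_cases h1 : A₁ = ⊥
      · refine ⟨A, le_rfl, ⟨hA, ?_⟩, fun h => h0 (le_bot_iff.1 (h.trans h1.le))⟩
        rw [hc1, h1, card_bot, mul_one]
      obtain ⟨A₂, h2A, hn2, hc2, hA₂⟩ := hA.hyperplane hs h1A h1
      obtain ⟨k', B', hB', -, hsup'⟩ := ih A₂ (lt_of_le_of_ne h2A fun h => hn2 (h ▸ h1A)) hA₂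
      by_contra hcon
      push Not at hcon
      refine hn2 (eq_of_le_of_card_ge ?_ ?_).ge
      · rw [← hsup']
        exact iSup_le fun i => hcon _ ((hB' i).1.trans h2A) (hB' i).2
      · exact (Nat.eq_of_mul_eq_mul_left hp.out.pos (hc1.symm.trans hc2)).le
    have hdisj : b ⊓ A₁ = ⊥ := by
      refine card_eq_one.1 ?_
      rcases (Nat.dvd_prime hp.out).1 (hb.2 ▸ card_dvd_of_le (inf_le_left : b ⊓ A₁ ≤ b)) with h | h
      · exact h
      · exact absurd ((eq_of_le_of_card_ge inf_le_left (by rw [h, hb.2])).ge.trans inf_le_right) hbn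
    haveI := hA.ea.1
    refine ⟨k + 1, Fin.cons b B, Fin.cases ⟨hbA, hb⟩ fun i => ⟨(hB i).1.trans h1A, (hB i).2⟩, ?_, ?_⟩
    · intro i
      rw [disjoint_iff, eq_bot_iff]
      intro x hx
      induction i using Fin.cases with
      | zero =>
        simp only [Fin.cons_zero] at hx
        refine hdisj.le ⟨hx.1, ?_⟩
        refine (iSup₂_le (a := A₁) fun j hj => ?_) hx.2
        induction j using Fin.cases with
        | zero => exact absurd rfl hj
        | succ j => simp only [Fin.cons_succ]; exact (hB j).1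
      | succ i =>
        simp only [Fin.cons_succ] at hx
        set R := ⨆ (j : Fin k) (_ : j ≠ i), B j with hR
        have hRA : R ≤ A₁ := iSup₂_le fun j _ => (hB j).1
        have h2 : x ∈ b ⊔ R := by
          refine (iSup₂_le (a := b ⊔ R) fun j hj => ?_) hx.2
          induction j using Fin.cases with
          | zero => simp only [Fin.cons_zero]; exact le_sup_left
          | succ j =>
            simp only [Fin.cons_succ]
            exact (le_iSup₂ (f := fun j (_ : j ≠ i) => B j) j fun e => hj (e ▸ rfl)).trans le_sup_right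
        have hnorm : b ≤ normalizer (R : Set G) := fun y hy => centralizer_le_normalizer _
          (mem_centralizer_iff.2 fun r hr => (Thompson.isEA_commute hA.ea (h1A (hRA hr)) (hbA hy)).eq)
        obtain ⟨z, hz, y, hy, rfl⟩ := Coprime.exists_mul_of_mem_sup hnorm (sup_comm b R ▸ h2)
        have hy1 : y = 1 := mem_bot.1 (hdisj.le ⟨hy, by
          simpa using A₁.mul_mem (A₁.inv_mem (hRA hz)) ((hB i).1 hx.1)⟩)
        rw [hy1, mul_one] at hx ⊢
        exact (disjoint_iff.1 (hind i)).le ⟨hx.1, hz⟩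
    · refine le_antisymm (iSup_le (Fin.cases hbA fun i => (hB i).1.trans h1A)) ?_
      have hle : b ⊔ A₁ ≤ ⨆ i, (Fin.cons b B : Fin (k+1) → Subgroup G) i := by
        refine sup_le (le_iSup_of_le 0 le_rfl) ?_
        rw [← hsup]
        exact iSup_le fun i => le_iSup_of_le i.succ le_rfl
      refine le_trans ?_ hle
      refine (eq_of_le_of_card_ge (sup_le hbA h1A) ?_).ge
      rw [sup_comm, Coprime.card_sup_of_disjoint (fun y hy => centralizer_le_normalizer _
        (mem_centralizer_iff.2 fun r hr => (Thompson.isEA_commute hA.ea (h1A hr) (hbA hy)).eq))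
        (disjoint_iff.2 (inf_comm b A₁ ▸ hdisj)), hb.2, hc1, mul_comm]

/-- A minimal nontrivially acting best offender has order `p`. -/
theorem Setup.isOne_of_min (hs : Setup p V H) (hAH : A ≤ H) (hA : Cfsg.IsBestOffenderOn p V A)
    (hAV : ⁅V, A⁆ ≠ ⊥)
    (hmin : ∀ B : Subgroup G, B ≤ A → Cfsg.IsBestOffenderOn p V B → ⁅V, B⁆ ≠ ⊥ → B = A) :
    IsOne p V H A := by
  obtain ⟨k, B, hB, -, hsup⟩ := (hs.isOff_of_best hAH hA).decomp hs
  rcases k with _ | k
  · exact absurd (by simp [← hsup, iSup_of_empty]) hAV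
  have hne : B 0 ≠ ⊥ := fun h => hp.out.one_lt.ne (by rw [← (hB 0).2.2, h, card_bot])
  exact hmin _ (hB 0).1 ((hB 0).2.1.best hs) (hs.commutator_ne_bot (hB 0).2.1.le hne) ▸ (hB 0).2

theorem IsOne.best (hs : Setup p V H) (hA : IsOne p V H A) :
    Cfsg.IsBestOffenderOn p V A ∧ ⁅V, A⁆ ≠ ⊥ ∧
      ∀ B : Subgroup G, B ≤ A → Cfsg.IsBestOffenderOn p V B → ⁅V, B⁆ ≠ ⊥ → B = A := by
  have hne : A ≠ ⊥ := fun h => hp.out.one_lt.ne (by rw [← hA.2, h, card_bot])
  refine ⟨hA.1.best hs, hs.commutator_ne_bot hA.1.le hne, fun B hB _ hBV => ?_⟩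
  rcases (Nat.dvd_prime hp.out).1 (hA.2 ▸ card_dvd_of_le hB) with h | h
  · exact absurd (by rw [card_eq_one.1 h, commutator_bot_right]) hBV
  · exact eq_of_le_of_card_ge hB (by rw [h, hA.2])

theorem IsOne.fixed_card (hA : IsOne p V H A) :
    Nat.card V = p * Nat.card (V ⊓ centralizer (A : Set G) : Subgroup G) := by
  rw [← hA.1.card, hA.2]

theorem IsOne.relIndex_fixed (hA : IsOne p V H A) : (V ⊓ centralizer (A : Set G)).relIndex V = p := by
  have h := Core.card_mul_relIndex (inf_le_left : V ⊓ centralizer (A : Set G) ≤ V)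
  rw [hA.fixed_card, mul_comm p] at h
  exact Nat.eq_of_mul_eq_mul_left Nat.card_pos h

/-- The commutator of an offender of order `p` is a fixed line. -/
theorem IsOne.line (hs : Setup p V H) (hA : IsOne p V H A) :
    Nat.card ↥⁅V, A⁆ = p ∧ ⁅V, A⁆ ≤ V ⊓ centralizer (A : Set G) := by
  have hAV : A ≤ normalizer (V : Set G) := hA.1.le.trans hs.hHV
  haveI := hA.1.ea.1
  haveI := hs.hV.1
  obtain ⟨⟨a, ha⟩, ha'⟩ := ne_bot_iff_exists_ne_one.1
    (fun h => hp.out.one_lt.ne (by rw [← hA.2, h, card_bot]) : A ≠ ⊥)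
  have ha1 : a ≠ 1 := fun h => ha' (Subtype.ext h)
  have hAz : zpowers a = A := eq_of_le_of_card_ge (zpowers_le.2 ha)
    (by rw [hA.2, Nat.card_zpowers, orderOf_eq_prime (hA.1.ea.2 a ha) ha1])
  have hcomm : ∀ {x y : G}, x ∈ V → y ∈ V → x * y = y * x := fun hx hy =>
    (Thompson.isEA_commute hs.hV hx hy).eq
  have hconj : ∀ {v : G}, v ∈ V → a * v * a⁻¹ ∈ V := fun hv => (mem_normalizer_iff.1 (hAV ha) _).1 hv
  let δ : V →* G :=
    { toFun := fun v => ⁅(v : G), a⁆
      map_one' := by simp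
      map_mul' := fun v w => by
        show ⁅(v : G) * w, a⁆ = ⁅(v : G), a⁆ * ⁅(w : G), a⁆
        have h1 : ⁅(w : G), a⁆ ∈ V := by
          rw [commutatorElement_def]; simpa [mul_assoc] using V.mul_mem w.2 (hconj (V.inv_mem w.2))
        calc ⁅(v : G) * w, a⁆ = (v : G) * ⁅(w : G), a⁆ * (v : G)⁻¹ * ⁅(v : G), a⁆ := by
              simp only [commutatorElement_def]; group
          _ = ⁅(w : G), a⁆ * ⁅(v : G), a⁆ := by rw [hcomm v.2 h1, mul_inv_cancel_right]
          _ = _ := hcomm h1 (by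
              rw [commutatorElement_def]; simpa [mul_assoc] using V.mul_mem v.2 (hconj (V.inv_mem v.2))) }
  have hδ : ∀ v : V, δ v = ⁅(v : G), a⁆ := fun v => rfl
  have hker : δ.ker = (V ⊓ centralizer (A : Set G)).subgroupOf V := by
    ext v
    rw [MonoidHom.mem_ker, hδ, commutatorElement_eq_one_iff_mul_comm, mem_subgroupOf]
    refine ⟨fun h => ⟨v.2, ?_⟩, fun h => (mem_centralizer_iff.1 h.2 a ha).symm⟩
    rw [← hAz]
    refine mem_centralizer_iff.2 ?_
    rintro _ ⟨n, rfl⟩
    exact (Commute.zpow_left (h.symm : Commute a (v : G)) n).eq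
  have hcard : Nat.card δ.range = p := by
    rw [← index_ker, hker]
    exact hA.relIndex_fixed
  have hDV : δ.range ≤ V := by
    rintro _ ⟨v, rfl⟩
    rw [hδ, commutatorElement_def]
    simpa [mul_assoc] using V.mul_mem v.2 (hconj (V.inv_mem v.2))
  have hDinv : ∀ x ∈ δ.range, a * x * a⁻¹ ∈ δ.range := by
    rintro _ ⟨v, rfl⟩
    refine ⟨⟨a * v * a⁻¹, hconj v.2⟩, ?_⟩
    simp only [hδ, commutatorElement_def]
    group
  have hAD : A ≤ normalizer (δ.range : Set G) := by
    rw [← hAz, zpowers_le]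
    exact mem_normalizer_fintype hDinv
  have hVA : ⁅V, A⁆ = δ.range := by
    refine le_antisymm ?_ ?_
    · rw [commutator_le]
      intro v hv x hx
      rw [← hAz] at hx
      obtain ⟨n, rfl⟩ := mem_powers_iff_mem_zpowers.2 hx
      clear hx
      show ⁅v, a ^ n⁆ ∈ δ.range
      induction n with
      | zero => simp
      | succ n ih =>
        have h2 : ⁅v, a ^ (n + 1)⁆ = ⁅v, a⁆ * (a * ⁅v, a ^ n⁆ * a⁻¹) := by
          simp only [commutatorElement_def, pow_succ']; group
        rw [h2]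
        exact δ.range.mul_mem ⟨⟨v, hv⟩, rfl⟩ (hDinv _ ih)
    · rintro _ ⟨v, rfl⟩
      exact commutator_mem_commutator v.2 ha
  rw [hVA]
  refine ⟨hcard, le_inf hDV ?_⟩
  have hne : δ.range ≠ ⊥ := fun h => hp.out.one_lt.ne (by rw [← hcard, h, card_bot])
  have hlt := PGroup.commutator_lt_of_isPGroup ((isPGroup_of_hV hs).to_le hDV)
    (PGroup.isPGroup_of_isElementaryAbelian hA.1.ea) hAD hne
  rw [← commutator_eq_bot_iff_le_centralizer, ← card_eq_one]
  rcases (Nat.dvd_prime hp.out).1 (hcard ▸ card_dvd_of_le hlt.le) with h | h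
  · exact h
  · exact absurd (eq_of_le_of_card_ge hlt.le (by rw [h, hcard])) hlt.ne

end Cfsg.Lib.Local.FF
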