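import Cfsg.Agent.Lib.Local.FF.Pair
import Cfsg.Agent.Lib.Local.QdRankTwo
import Cfsg.Agent.Lib.Linear.GLTwo

/-!
# The `SL₂(p)` attached to an offender of order `p`

`block A = [O_{p'}(H), A] A` is `SL₂(p)`, `p ≤ 3`, is normalized by `H`, and `H = block A × C_H([V, block A])`.
-/

set_option autoImplicit false
set_option linter.style.haveILetI false

namespace Cfsg.Lib.Local.FF

open Subgroup
open scoped commutatorElement MatrixGroups

variable {G : Type*} [Group G] [Finite G] {p : ℕ} [hp : Fact p.Prime] {V H A B : Subgroup G}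

/-- `[O_{p'}(H), A] A`. -/
abbrev block (p : ℕ) (H A : Subgroup G) : Subgroup G := ⁅core p H, A⁆ ⊔ A

/-- A normalizing subgroup of both arguments normalizes the commutator. -/
theorem le_normalizer_commutator {X U K : Subgroup G} (h1 : X ≤ normalizer (U : Set G))
    (h2 : X ≤ normalizer (K : Set G)) : X ≤ normalizer ((⁅U, K⁆ : Subgroup G) : Set G) := by
  intro x hx
  rw [mem_normalizer_iff_map_conj_eq, map_commutator]
  rw [show U.map (MulAut.conj x : G →* G) = U from mem_normalizer_iff_map_conj_eq.1 (h1 hx),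
    show K.map (MulAut.conj x : G →* G) = K from mem_normalizer_iff_map_conj_eq.1 (h2 hx)]

omit [Finite G] hp in
/-- A normalizing subgroup of both arguments normalizes the fixed points. -/
theorem le_normalizer_fixed {X U K : Subgroup G} (h1 : X ≤ normalizer (U : Set G))
    (h2 : X ≤ normalizer (K : Set G)) :
    X ≤ normalizer ((U ⊓ centralizer (K : Set G) : Subgroup G) : Set G) := by
  refine le_normalizer_iff.mpr fun x hx u hu => ⟨(mem_normalizer_iff.1 (h1 hx) u).1 hu.1, ?_⟩
  have h : (centralizer (K : Set G)).map (MulAut.conj x).toMonoidHom = centralizer (K : Set G) := by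
    rw [map_conj_centralizer, show K.map (MulAut.conj x).toMonoidHom = K from
      mem_normalizer_iff_map_conj_eq.1 (h2 hx)]
  exact h.le ⟨u, hu.2, rfl⟩

theorem IsOne.not_core_le (hs : Setup p V H) (hA : IsOne p V H A) :
    ¬ core p H ≤ centralizer (A : Set G) := fun h =>
  hA.ne_bot (le_bot_iff.1 (hA.inf_core ▸ le_inf le_rfl
    ((le_inf hA.1.le (le_centralizer_iff.1 h)).trans hs.inf_centralizer_core)))

theorem conj_ne (hA : IsOne p V H A) {x : G} (hx : x ∈ core p H) (hxA : x ∉ centralizer (A : Set G)) :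
    A ≠ A.map (MulAut.conj x).toMonoidHom := by
  intro he
  refine hxA (mem_centralizer_iff.2 fun a ha => ?_)
  have h1 : x * a * x⁻¹ ∈ A := he.ge ⟨a, ha, rfl⟩
  have h2 : x * a * x⁻¹ * a⁻¹ ∈ core p H := by
    have := (mem_normalizer_iff.1 (le_normalizer_core (hA.1.le ha)) x⁻¹).1 ((core p H).inv_mem hx)
    simpa [mul_assoc] using (core p H).mul_mem hx this
  have h3 : x * a * x⁻¹ * a⁻¹ = 1 := mem_bot.1 (hA.inf_core.le ⟨A.mul_mem h1 (A.inv_mem ha), h2⟩)
  exact (mul_inv_eq_iff_eq_mul.1 (mul_inv_eq_one.1 h3)).symm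

theorem conj_le_block {x : G} (hx : x ∈ core p H) :
    A.map (MulAut.conj x).toMonoidHom ≤ block p H A := by
  rintro _ ⟨a, ha, rfl⟩
  show x * a * x⁻¹ ∈ _
  rw [show x * a * x⁻¹ = ⁅x, a⁆ * a by simp [commutatorElement_def]]
  exact mul_mem_sup (commutator_mem_commutator hx ha) ha

theorem commutator_core_le (hA : IsOne p V H A) : ⁅core p H, A⁆ ≤ core p H :=
  Coprime.commutator_le_of_le_normalizer (hA.1.le.trans le_normalizer_core)

theorem block_le_core_sup (hA : IsOne p V H A) : block p H A ≤ core p H ⊔ A :=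
  sup_le_sup_right (commutator_core_le hA) A

theorem block_eq_sup (hs : Setup p V H) (hA : IsOne p V H A) {x : G} (hx : x ∈ core p H)
    (hxA : x ∉ centralizer (A : Set G)) :
    block p H A = A ⊔ A.map (MulAut.conj x).toMonoidHom := by
  refine le_antisymm (sup_le ?_ le_sup_left) (sup_le le_sup_right (conj_le_block hx))
  rw [commutator_le]
  intro y hy a ha
  have h1 := le_sup_of_congr hs hA (hA.conj hs (core_le hx)).1
    ((conj_le_block hx).trans (block_le_core_sup hA)) (conj_ne hA hx hxA) (hA.conj hs (core_le hy)).1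
    ((conj_le_block hy).trans (block_le_core_sup hA)) (mem_map_of_mem (MulAut.conj y).toMonoidHom ha)
  simp only [MulEquiv.coe_toMonoidHom, MulAut.conj_apply] at h1
  rw [show ⁅y, a⁆ = y * a * y⁻¹ * a⁻¹ from commutatorElement_def y a]
  exact Subgroup.mul_mem _ h1 (Subgroup.inv_mem _ (mem_sup_left ha))

/-- The data of the block of `A`. -/
theorem exists_pair (hs : Setup p V H) (hA : IsOne p V H A) :
    ∃ x ∈ core p H, block p H A = A ⊔ A.map (MulAut.conj x).toMonoidHom ∧
      IsOne p V H (A.map (MulAut.conj x).toMonoidHom) ∧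
      PlaneData p V A (A.map (MulAut.conj x).toMonoidHom) ∧
      A.map (MulAut.conj x).toMonoidHom ≤ core p H ⊔ A ∧
      A ≠ A.map (MulAut.conj x).toMonoidHom := by
  obtain ⟨x, hx, hxA⟩ := SetLike.not_le_iff_exists.1 (hA.not_core_le hs)
  have h1 := (conj_le_block (A := A) hx).trans (block_le_core_sup hA)
  exact ⟨x, hx, block_eq_sup hs hA hx hxA, (hA.conj hs (core_le hx)).1,
    planeData hs hA (hA.conj hs (core_le hx)).1 h1 (conj_ne hA hx hxA), h1, conj_ne hA hx hxA⟩

theorem block_norm_self (hA : IsOne p V H A) :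
    block p H A ≤ normalizer ((⁅core p H, A⁆ : Subgroup G) : Set G) :=
  sup_le le_normalizer (normalizer_commutator_ge_right _ _)

theorem block_inf_core (hA : IsOne p V H A) : block p H A ⊓ core p H = ⁅core p H, A⁆ := by
  refine le_antisymm ?_ (le_inf le_sup_left (commutator_core_le hA))
  rintro y ⟨hy, hyQ⟩
  obtain ⟨k, hk, a, ha, rfl⟩ :=
    Coprime.exists_mul_of_mem_sup (normalizer_commutator_ge_right (core p H) A) hy
  have ha1 : a = 1 := mem_bot.1 (hA.inf_core.le ⟨ha, by
    simpa using (core p H).mul_mem ((core p H).inv_mem (commutator_core_le hA hk)) hyQ⟩)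
  rwa [ha1, mul_one]

theorem card_commutator_core (hs : Setup p V H) (hA : IsOne p V H A) :
    Nat.card ↥⁅core p H, A⁆ = p ^ 2 - 1 := by
  obtain ⟨x, -, hEq, -, hd, -, -⟩ := exists_pair hs hA
  obtain ⟨e⟩ := hd.iso
  have h1 : Nat.card (block p H A) = p * (p ^ 2 - 1) := by
    rw [hEq, Nat.card_congr e.toEquiv, Linear.Two.card_SL_two, ZMod.card]
  rw [block, Coprime.card_sup_of_disjoint (normalizer_commutator_ge_right (core p H) A)
    (disjoint_iff.2 (le_bot_iff.1 (hA.inf_core ▸ le_inf inf_le_right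
      (inf_le_left.trans (commutator_core_le hA))))), hA.2, mul_comm p] at h1
  exact Nat.eq_of_mul_eq_mul_right hp.out.pos h1

/-- The structure of a block. -/
theorem block_iso (hs : Setup p V H) (hA : IsOne p V H A) :
    (p = 2 ∨ p = 3) ∧ Nonempty (↥(block p H A) ≃* SL(2, ZMod p)) ∧
      Nat.card ↥⁅V, block p H A⁆ = p ^ 2 := by
  obtain ⟨x, -, hEq, -, hd, -, -⟩ := exists_pair hs hA
  obtain ⟨e⟩ := hd.iso
  refine ⟨?_, hEq.symm ▸ ⟨e⟩, hEq.symm ▸ hd.card⟩
  by_contra hcon
  push Not at hcon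
  have h5 : 5 ≤ p := by
    have := hp.out.two_le
    by_contra h
    interval_cases p
    · exact hcon.1 rfl
    · exact hcon.2 rfl
    · exact absurd hp.out (by norm_num)
  set K := ⁅core p H, A⁆ with hK
  haveI hKn : (K.subgroupOf (block p H A)).Normal := normal_subgroupOf_iff_le_normalizer le_sup_left |>.2
    (block_norm_self hA)
  have hidx : (K.subgroupOf (block p H A)).index = p := by
    have h1 : Nat.card (block p H A) = p * (p ^ 2 - 1) := by
      rw [hEq, Nat.card_congr e.toEquiv, Linear.Two.card_SL_two, ZMod.card]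
    have h2 := Core.card_mul_relIndex (le_sup_left : K ≤ block p H A)
    rw [h1, card_commutator_core hs hA, mul_comm p] at h2
    exact Nat.eq_of_mul_eq_mul_left (by rw [← card_commutator_core hs hA]; exact Nat.card_pos) h2
  haveI : Fact (Nat.card (↥(block p H A) ⧸ K.subgroupOf (block p H A))).Prime :=
    ⟨by rw [← Subgroup.index, hidx]; exact hp.out⟩
  haveI : IsCyclic (↥(block p H A) ⧸ K.subgroupOf (block p H A)) := isCyclic_of_prime_card rfl
  have hcomm : _root_.commutator ↥(block p H A) ≤ K.subgroupOf (block p H A) :=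
    Subgroup.Normal.quotient_commutative_iff_commutator_le.1 ⟨⟨IsCyclic.commGroup.mul_comm⟩⟩
  let e' : ↥(block p H A) ≃* SL(2, ZMod p) := (MulEquiv.subgroupCongr hEq).trans e
  have htop : _root_.commutator ↥(block p H A) = ⊤ := by
    apply Subgroup.map_injective (f := e'.toMonoidHom) e'.injective
    rw [_root_.commutator_def, map_commutator, map_top_of_surjective _ e'.surjective, ← _root_.commutator_def,
      QdRankTwo.commutator_SL_two h5]
  rw [htop, top_le_iff] at hcomm
  rw [hcomm, index_top] at hidx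
  exact hp.out.one_lt.ne hidx

theorem exists_noncommuting_three :
    ∃ u w : SL(2, ZMod 3), u ^ 4 = 1 ∧ w ^ 4 = 1 ∧ u * w ≠ w * u :=
  ⟨⟨!![0, -1; 1, 0], by decide⟩, ⟨!![1, 1; 1, -1], by decide⟩, by decide, by decide, by decide⟩

theorem commutator_core_data (hs : Setup p V H) (hA : IsOne p V H A) :
    (p = 2 ∧ IsPGroup 3 ↥⁅core p H, A⁆) ∨
      (p = 3 ∧ IsPGroup 2 ↥⁅core p H, A⁆ ∧ ¬ IsMulCommutative ↥⁅core p H, A⁆) := by
  have hc := card_commutator_core hs hA
  obtain ⟨hp23, ⟨e⟩, -⟩ := block_iso hs hA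
  rcases hp23 with rfl | rfl
  · exact Or.inl ⟨rfl, IsPGroup.of_card (n := 1) (by rw [hc]; norm_num)⟩
  refine Or.inr ⟨rfl, IsPGroup.of_card (n := 3) (by rw [hc]; norm_num), fun hab => ?_⟩
  set K := ⁅core 3 H, A⁆ with hK
  haveI hKn : (K.subgroupOf (block 3 H A)).Normal := normal_subgroupOf_iff_le_normalizer le_sup_left |>.2
    (block_norm_self hA)
  have hidx : (K.subgroupOf (block 3 H A)).index = 3 := by
    have h2 := Core.card_mul_relIndex (le_sup_left : K ≤ block 3 H A)
    rw [Nat.card_congr e.toEquiv, Linear.Two.card_SL_two, ZMod.card, hc, mul_comm 3 _] at h2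
    exact Nat.eq_of_mul_eq_mul_left (by norm_num) h2
  have hmem : ∀ u : SL(2, ZMod 3), u ^ 4 = 1 → ((e.symm u : ↥(block 3 H A)) : G) ∈ K := by
    intro u hu
    set v := e.symm u
    have h4 : v ^ 4 = 1 := by rw [← map_pow, hu, map_one]
    have h3 := hidx ▸ (K.subgroupOf (block 3 H A)).pow_index_mem v
    have : v = v ^ 4 * (v ^ 3)⁻¹ := by group
    rw [h4, one_mul] at this
    exact mem_subgroupOf.1 (this ▸ (K.subgroupOf (block 3 H A)).inv_mem h3)
  obtain ⟨u, w, hu, hw, hne⟩ := exists_noncommuting_three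
  refine hne (e.symm.injective ?_)
  rw [map_mul, map_mul]
  exact Subtype.ext (congrArg Subtype.val (hab.is_comm.comm ⟨_, hmem u hu⟩ ⟨_, hmem w hw⟩) :)

theorem fixed_block (hs : Setup p V H) (hA : IsOne p V H A) :
    ⁅V, ⁅core p H, A⁆⁆ = ⁅V, block p H A⁆ ∧
      V ⊓ centralizer ((⁅core p H, A⁆ : Subgroup G) : Set G) =
        V ⊓ centralizer ((block p H A : Subgroup G) : Set G) ∧
      ⁅V, block p H A⁆ ⊓ centralizer ((⁅core p H, A⁆ : Subgroup G) : Set G) = ⊥ := by
  obtain ⟨x, hx, hEq, hB, hd, hBle, hne⟩ := exists_pair hs hA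
  set K := ⁅core p H, A⁆ with hK
  set E := block p H A with hE
  have hKE : K ≤ E := le_sup_left
  have hWV : ⁅V, E⁆ ≤ V := Coprime.commutator_le_of_le_normalizer
    ((sup_le ((commutator_core_le hA).trans core_le) hA.1.le).trans hs.hHV)
  have hbot : ⁅V, E⁆ ⊓ centralizer (K : Set G) = ⊥ := by
    rw [eq_bot_iff]
    rintro w ⟨hw, hwK⟩
    have hfree := hd.free
    rw [← hEq] at hfree
    refine hfree.le ⟨hw, ?_⟩
    have hfixA : w ∈ centralizer (A : Set G) := by
      refine mem_centralizer_iff.2 fun a ha => ?_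
      set s := ⁅a, w⁆ with hs'
      have hsA : s ∈ ⁅V, A⁆ := by
        rw [hs', commutator_comm]; exact commutator_mem_commutator ha (hWV hw)
      have hawK : a * w * a⁻¹ ∈ centralizer (K : Set G) := by
        refine mem_centralizer_iff.2 fun k hk => ?_
        have h1 := mem_centralizer_iff.1 hwK (a⁻¹ * k * a)
          (by simpa using (mem_normalizer_iff.1 (normalizer_commutator_ge_right (core p H) A (A.inv_mem ha)) k).1 hk)
        calc k * (a * w * a⁻¹) = a * (a⁻¹ * k * a * w) * a⁻¹ := by group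
          _ = a * (w * (a⁻¹ * k * a)) * a⁻¹ := by rw [h1]
          _ = a * w * a⁻¹ * k := by group
      have hsK : s ∈ centralizer (K : Set G) := by
        rw [hs', commutatorElement_def]
        exact (centralizer (K : Set G)).mul_mem hawK ((centralizer (K : Set G)).inv_mem hwK)
      have hsB : s ∈ centralizer ((A.map (MulAut.conj x).toMonoidHom : Subgroup G) : Set G) := by
        refine mem_centralizer_iff.2 ?_
        rintro _ ⟨b, hb, rfl⟩
        show x * b * x⁻¹ * s = s * (x * b * x⁻¹)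
        rw [show x * b * x⁻¹ = ⁅x, b⁆ * b by simp [commutatorElement_def], mul_assoc,
          mem_centralizer_iff.1 ((hA.line hs).2 hsA).2 b hb, ← mul_assoc,
          mem_centralizer_iff.1 hsK _ (commutator_mem_commutator hx hb), mul_assoc]
      have hs1 : s = 1 := mem_bot.1 ((inf_eq_bot_of_not_le (hA.line hs).1 hd.right).le ⟨hsA, hsB⟩)
      exact commutatorElement_eq_one_iff_mul_comm.1 hs1
    rw [hE]
    rw [inf_centralizer_sup]
    exact ⟨hwK, hfixA⟩
  refine ⟨?_, ?_, hbot⟩
  · have hKV : K ≤ normalizer (V : Set G) := ((commutator_core_le hA).trans core_le).trans hs.hHV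
    haveI := hs.hV.1
    have hcop : (Nat.card K).Coprime (Nat.card V) := by
      obtain ⟨n, hn⟩ := IsPGroup.iff_card.1 (isPGroup_of_hV hs)
      rw [hn]
      exact (Core.coprime_card_of_le (commutator_core_le hA) core_coprime).pow_right n
    refine eq_of_le_of_card_ge (commutator_mono le_rfl hKE) ?_
    have h1 := Coprime.card_commutator_mul_card_centralizer hKV hcop
    have h2 : Nat.card (V ⊓ centralizer (K : Set G) : Subgroup G) * Nat.card ↥⁅V, E⁆ ≤ Nat.card V := by
      have h3 := Timmesfeld.card_mul_card_le (V ⊓ centralizer (K : Set G)) ⁅V, E⁆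
      rw [le_bot_iff.1 (le_trans (le_inf inf_le_right (inf_le_left.trans inf_le_right)) hbot.le),
        card_bot, one_mul] at h3
      exact h3.trans (Subgroup.card_le_of_le (sup_le inf_le_left hWV))
    rw [← h1, mul_comm (Nat.card ↥⁅V, K⁆)] at h2
    exact Nat.le_of_mul_le_mul_left h2 Nat.card_pos
  · refine (eq_of_le_of_card_ge (inf_le_inf_left V (centralizer_le hKE)) ?_).symm
    have hsp := hd.span
    rw [← hEq] at hsp
    have hn : V ⊓ centralizer (E : Set G) ≤ normalizer ((⁅V, E⁆ : Subgroup G) : Set G) := fun y hy =>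
      centralizer_le_normalizer _ (mem_centralizer_iff.2 fun z hz =>
        (Thompson.isEA_commute hs.hV (hWV hz) hy.1).eq)
    have h3 := Timmesfeld.card_mul_card_le ⁅V, E⁆ (V ⊓ centralizer (K : Set G))
    rw [le_bot_iff.1 ((inf_le_inf_left _ inf_le_right).trans hbot.le), card_bot, one_mul] at h3
    have h4 : Nat.card ↥(⁅V, E⁆ ⊔ (V ⊓ centralizer (E : Set G))) =
        Nat.card ↥⁅V, E⁆ * Nat.card (V ⊓ centralizer (E : Set G) : Subgroup G) :=
      Coprime.card_sup_of_disjoint hn (disjoint_iff.2 (le_bot_iff.1 ((inf_le_inf_left _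
        (inf_le_right.trans (centralizer_le hKE))).trans hbot.le)))
    rw [hsp] at h4
    have h5 := h3.trans (Subgroup.card_le_of_le (sup_le hWV inf_le_left))
    rw [h4] at h5
    exact Nat.le_of_mul_le_mul_left h5 Nat.card_pos

theorem core_normalizes (hs : Setup p V H) (hA : IsOne p V H A) :
    core p H ≤ normalizer ((⁅V, block p H A⁆ : Subgroup G) : Set G) ∧
      core p H ≤ normalizer ((V ⊓ centralizer ((block p H A : Subgroup G) : Set G) : Subgroup G) : Set G) := by
  obtain ⟨h1, h2, -⟩ := fixed_block hs hA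
  rw [← h1, ← h2]
  exact ⟨le_normalizer_commutator (core_le.trans hs.hHV) (normalizer_commutator_ge_left _ _),
    le_normalizer_fixed (core_le.trans hs.hHV) (normalizer_commutator_ge_left _ _)⟩

theorem block_centre (hs : Setup p V H) (hA : IsOne p V H A) {w : G} (hw : w ∈ ⁅V, block p H A⁆) :
    ∃ D, IsOne p V H D ∧ D ≤ block p H A ∧ w ∈ ⁅V, D⁆ := by
  obtain ⟨x, -, hEq, hB, -, hBle, hne⟩ := exists_pair hs hA
  rw [hEq] at hw ⊢
  exact exists_centre hs hA hB hBle hne hw

/-- No line of the plane is invariant under the core. -/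
theorem no_invariant_line (hs : Setup p V H) (hA : IsOne p V H A) {U : Subgroup G}
    (hU : U ≤ ⁅V, block p H A⁆) (hUc : Nat.card U = p) (hUQ : core p H ≤ normalizer (U : Set G)) : False := by
  obtain ⟨⟨w, hw⟩, hw1⟩ := ne_bot_iff_exists_ne_one.1
    (fun h => hp.out.one_lt.ne (by rw [← hUc, h, card_bot]) : U ≠ ⊥)
  have hwne : w ≠ 1 := fun h => hw1 (Subtype.ext h)
  obtain ⟨D, hD, hDE, hwD⟩ := block_centre hs hA (hU hw)
  have hT : ⁅V, D⁆ = U := by
    have h1 : ∀ {X : Subgroup G}, Nat.card X = p → w ∈ X → zpowers w = X := fun {X} hX hwX => by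
      haveI : Fact (Nat.card X).Prime := ⟨hX ▸ hp.out⟩
      refine eq_of_le_of_card_ge (zpowers_le.2 hwX) (le_of_eq ?_)
      rw [hX, Nat.card_zpowers]
      refine (orderOf_eq_prime ?_ hwne).symm
      rw [← hX]
      exact congrArg Subtype.val (pow_card_eq_one' (x := (⟨w, hwX⟩ : X)))
    rw [← h1 (hD.line hs).1 hwD, h1 hUc hw]
  refine hD.not_core_le hs fun y hy => ?_
  by_contra hyD
  obtain ⟨hDy, hDyT⟩ := hD.conj hs (core_le hy)
  rw [hT, Core.map_conj_eq_of_mem_normalizer (hUQ hy)] at hDyT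
  exact conj_ne hD hy hyD (eq_of_fixed hs hD hDy ((conj_le_block hy).trans (block_le_core_sup hD))
    (by rw [hDyT, ← hT]; exact (hD.line hs).2.trans inf_le_right))

/-- Offenders with the same centre and the same axis are equal. -/
theorem eq_of_axis (hs : Setup p V H) (hA : IsOne p V H A) (hB : IsOne p V H B) (hT : ⁅V, A⁆ = ⁅V, B⁆)
    (hC : V ⊓ centralizer (A : Set G) = V ⊓ centralizer (B : Set G)) : A = B := by
  set F := V ⊓ centralizer (A : Set G) with hF
  obtain ⟨v, hv, hvF⟩ : ∃ v ∈ V, v ∉ F := by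
    by_contra hcon
    push Not at hcon
    have h := hA.fixed_card
    rw [show V ⊓ centralizer (A : Set G) = V from le_antisymm inf_le_left hcon] at h
    have h2 := Nat.card_pos (α := V)
    have := Nat.mul_le_mul_right (Nat.card V) hp.out.two_le
    omega
  let g : A → ↥⁅V, A⁆ := fun a => ⟨⁅(a : G), v⁆, by
    rw [commutator_comm]; exact commutator_mem_commutator a.2 hv⟩
  have hcent : ∀ z ∈ H, z * v = v * z → (∀ f ∈ F, z * f = f * z) → z = 1 := by
    intro z hz hzv hzF
    have hle : V ≤ centralizer ({z} : Set G) := by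
      have h1 : F ⊔ zpowers v ≤ centralizer ({z} : Set G) := by
        refine sup_le (fun f hf => mem_centralizer_singleton_iff.2 (hzF f hf).symm) ?_
        rw [zpowers_le, mem_centralizer_singleton_iff]
        exact hzv.symm
      refine le_trans (eq_of_le_of_card_ge (sup_le inf_le_left (zpowers_le.2 hv)) ?_).ge h1
      have hlt : F < F ⊔ zpowers v := lt_of_le_of_ne le_sup_left fun e =>
        hvF (e ▸ mem_sup_right (mem_zpowers v))
      obtain ⟨k, hk⟩ := (Core.card_mul_relIndex hlt.le) |> fun h => (⟨_, h⟩ : ∃ k, Nat.card F * k = _)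
      have hk1 : k ≠ 1 := fun e => hlt.ne (eq_of_le_of_card_ge hlt.le (by rw [← hk, e, mul_one]))
      have hkd : k ∣ p := by
        have h1 := card_dvd_of_le (sup_le inf_le_left (zpowers_le.2 hv) : F ⊔ zpowers v ≤ V)
        rw [← hk, hA.fixed_card, mul_comm p] at h1
        exact Nat.dvd_of_mul_dvd_mul_left Nat.card_pos h1
      rw [← hk, hA.fixed_card, ((Nat.dvd_prime hp.out).1 hkd).resolve_left hk1, mul_comm p]
    exact mem_bot.1 (hs.hf.le ⟨hz, mem_centralizer_iff.2 fun u hu =>
      mem_centralizer_singleton_iff.1 (hle hu)⟩)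
  have hcomm : ∀ {y f : G}, f ∈ F → y ∈ A → y * f = f * y := fun hf hy => mem_centralizer_iff.1 hf.2 _ hy
  have hginj : Function.Injective g := by
    intro a b hab
    have h1 : (a : G) * v * (a : G)⁻¹ = (b : G) * v * (b : G)⁻¹ := by
      have := congrArg Subtype.val hab
      simp only [g, commutatorElement_def] at this
      exact mul_right_cancel this
    refine Subtype.ext (inv_mul_eq_one.1 (hcent ((b : G)⁻¹ * a) (hA.1.le (A.mul_mem (A.inv_mem b.2) a.2))
      (mul_inv_eq_iff_eq_mul.1 ?_) fun f hf => hcomm hf (A.mul_mem (A.inv_mem b.2) a.2))).symm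
    calc (b : G)⁻¹ * a * v * ((b : G)⁻¹ * a)⁻¹ = (b : G)⁻¹ * ((a : G) * v * (a : G)⁻¹) * b := by group
      _ = v := by rw [h1]; group
  have hgsurj := ((Nat.bijective_iff_injective_and_card g).2 ⟨hginj, by rw [hA.2, (hA.line hs).1]⟩).2
  refine (hB.eq_of_le hA fun b hb => ?_).symm
  obtain ⟨a, ha⟩ := hgsurj ⟨⁅b, v⁆, by
    rw [hT, commutator_comm]; exact commutator_mem_commutator hb hv⟩
  have h1 : (a : G) * v * (a : G)⁻¹ = b * v * b⁻¹ := by
    have := congrArg Subtype.val ha
    simp only [g, commutatorElement_def] at this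
    exact mul_right_cancel this
  have h2 : (a : G)⁻¹ * b = 1 := by
    refine hcent _ (H.mul_mem (H.inv_mem (hA.1.le a.2)) (hB.1.le hb)) (mul_inv_eq_iff_eq_mul.1 ?_) fun f hf => ?_
    · calc (a : G)⁻¹ * b * v * ((a : G)⁻¹ * b)⁻¹ = (a : G)⁻¹ * (b * v * b⁻¹) * a := by group
        _ = v := by rw [← h1]; group
    · have e1 : b * f = f * b := mem_centralizer_iff.1 (hC.le hf).2 b hb
      rw [mul_assoc, e1, ← mul_assoc, hcomm hf (A.inv_mem a.2), mul_assoc]
  rw [← inv_mul_eq_one.1 h2]
  exact a.2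

end Cfsg.Lib.Local.FF
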