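import Cfsg.Agent.Lib.Local.FF.Split
import Cfsg.Agent.Lib.Core.Smul
import Mathlib.GroupTheory.Perm.Cycle.Type

/-!
# An operator group of prime exponent `q ≥ 5` on the blocks

`R` normalizes the pair `(V, H)`; it permutes the blocks, and centralizes the blocks it normalizes.
-/

set_option autoImplicit false
set_option linter.style.haveILetI false

namespace Cfsg.Lib.Local.FF

open Subgroup
open scoped commutatorElement IsMulCommutative

variable {G : Type*} [Group G] [Finite G] {p : ℕ} [hp : Fact p.Prime] {V H A R : Subgroup G} {q : ℕ}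

/-- A map of period `q` of a set with fewer than `q` points is the identity. -/
theorem iterate_fix {α : Type*} [Finite α] (hq : q.Prime) (f : α → α) (hf : f^[q] = id)
    (h : Nat.card α < q) (a : α) : f a = a := by
  have hinj : Function.Injective f := by
    have h2 : f^[q] = f^[q - 1] ∘ f := by
      rw [← Function.iterate_succ, Nat.succ_eq_add_one, Nat.sub_add_cancel hq.one_le]
    intro x y hxy
    calc x = f^[q] x := by rw [hf]; rfl
      _ = f^[q] y := by rw [h2]; exact congrArg f^[q - 1] hxy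
      _ = y := by rw [hf]; rfl
  let σ : Equiv.Perm α := Equiv.ofBijective f (Finite.injective_iff_bijective.1 hinj)
  have hσ : σ ^ q = 1 := Equiv.ext fun x => by
    rw [Equiv.Perm.coe_pow]; exact congrFun hf x
  have h1 : orderOf σ = 1 := by
    rcases (Nat.dvd_prime hq).1 (orderOf_dvd_of_pow_eq_one hσ) with h1 | h1
    · exact h1
    · exfalso
      have := orderOf_dvd_natCard σ
      rw [h1, Nat.card_perm, hq.dvd_factorial] at this
      omega
  exact Equiv.congr_fun (orderOf_eq_one_iff.1 h1) a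

theorem card_block_cases (hs : Setup p V H) (hA : IsOne p V H A) :
    (p = 2 ∧ Nat.card (block p H A) = 6) ∨ (p = 3 ∧ Nat.card (block p H A) = 24) := by
  rw [card_block hs hA]
  rcases (block_iso hs hA).1 with rfl | rfl <;> simp

theorem not_dvd_card_block (hs : Setup p V H) (hA : IsOne p V H A) (hq : q.Prime) (hq5 : 5 ≤ q) :
    ¬ q ∣ Nat.card (block p H A) := by
  intro h
  rcases card_block_cases hs hA with ⟨-, h1⟩ | ⟨-, h1⟩ <;> rw [h1] at h
  · have := Nat.le_of_dvd (by norm_num) h
    interval_cases q <;> first | omega | norm_num at hq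
  · rw [show 24 = 2 ^ 3 * 3 by norm_num] at h
    rcases (Nat.Prime.dvd_mul hq).1 h with h | h
    · have := Nat.le_of_dvd (by norm_num) (hq.dvd_of_dvd_pow h)
      omega
    · have := Nat.le_of_dvd (by norm_num) h
      omega

/-- An element of order dividing `q` normalizing a block centralizes it. -/
theorem centralizes_block (hs : Setup p V H) (hA : IsOne p V H A) (hq : q.Prime) (hq5 : 5 ≤ q) {x : G}
    (hxq : x ^ q = 1) (hx : x ∈ normalizer ((block p H A : Subgroup G) : Set G)) :
    block p H A ≤ centralizer ({x} : Set G) := by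
  obtain ⟨y, -, hEq, hB, -, -, -⟩ := exists_pair hs hA
  set E := block p H A with hE
  have hp3 : p ≤ 3 := by rcases (block_iso hs hA).1 with rfl | rfl <;> omega
  let P := {D : Subgroup G // D ≤ E ∧ Nat.card D = p}
  let f : P → P := fun D => ⟨D.1.map (MulAut.conj x).toMonoidHom,
    (map_mono D.2.1).trans (Core.map_conj_eq_of_mem_normalizer hx).le,
    by rw [card_map_of_injective (MulAut.conj x).injective, D.2.2]⟩
  have hit : ∀ (k : ℕ) (D : P), (f^[k] D).1 = D.1.map (MulAut.conj (x ^ k)).toMonoidHom := by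
    intro k
    induction k with
    | zero => intro D; rw [pow_zero, Coprime.map_conj_one]; rfl
    | succ k ih =>
      intro D
      rw [Function.iterate_succ_apply', pow_succ', ← Coprime.map_conj_conj]
      show ((f^[k] D).1).map (MulAut.conj x).toMonoidHom = _
      rw [ih]
  have hfq : f^[q] = id := funext fun D => Subtype.ext (by rw [hit, hxq, Coprime.map_conj_one]; rfl)
  have hcard : Nat.card P < q := by
    let g : P → Sylow p ↥E := fun D => IsPGroup.toSylow (P := D.1.subgroupOf E)
      (IsPGroup.of_card (n := 1) (by rw [Nat.card_congr (subgroupOfEquivOfLe D.2.1).toEquiv, D.2.2, pow_one]))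
      (by
        have h1 := card_mul_index (D.1.subgroupOf E)
        rw [Nat.card_congr (subgroupOfEquivOfLe D.2.1).toEquiv, D.2.2] at h1
        intro hd
        rcases card_block_cases hs hA with ⟨rfl, h2⟩ | ⟨rfl, h2⟩ <;> (rw [h2] at h1; omega))
    have hg : Function.Injective g := by
      intro D D' h
      have h1 : D.1.subgroupOf E = D'.1.subgroupOf E := congrArg Sylow.toSubgroup h
      refine Subtype.ext ?_
      rw [← map_subgroupOf_eq_of_le D.2.1, h1, map_subgroupOf_eq_of_le D'.2.1]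
    refine lt_of_le_of_lt (Nat.card_le_card_of_injective g hg) ?_
    obtain ⟨S⟩ : Nonempty (Sylow p ↥E) := inferInstance
    have h1 := S.card_dvd_index
    have h2 := card_sylow_modEq_one p ↥E
    have h3 : Nat.card (Sylow p ↥E) ∣ Nat.card E := h1.trans (Dvd.intro_left _ (card_mul_index (S : Subgroup ↥E)))
    rcases card_block_cases hs hA with ⟨hp2, h4⟩ | ⟨hp2, h4⟩ <;> subst hp2 <;> rw [h4] at h3
    · have := Nat.le_of_dvd (by norm_num) h3
      have h8 : Nat.card (Sylow 2 ↥E) % 2 = 1 := h2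
      interval_cases (Nat.card (Sylow 2 ↥E)) <;> omega
    · have := Nat.le_of_dvd (by norm_num) h3
      have h8 : Nat.card (Sylow 3 ↥E) % 3 = 1 := h2
      interval_cases (Nat.card (Sylow 3 ↥E)) <;> omega
  have key : ∀ D : Subgroup G, D ≤ E → Nat.card D = p → D ≤ centralizer ({x} : Set G) := by
    intro D hD hDc
    have hDx : D.map (MulAut.conj x).toMonoidHom = D :=
      congrArg Subtype.val (iterate_fix hq f hfq hcard ⟨D, hD, hDc⟩)
    let g : D → D := fun d => ⟨x * d * x⁻¹, hDx.le ⟨d, d.2, rfl⟩⟩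
    have hitg : ∀ (k : ℕ) (d : D), ((g^[k] d : D) : G) = x ^ k * d * (x ^ k)⁻¹ := by
      intro k
      induction k with
      | zero => intro d; simp
      | succ k ih =>
        intro d
        rw [Function.iterate_succ_apply']
        show x * ((g^[k] d : D) : G) * x⁻¹ = _
        rw [ih, pow_succ']; group
    have hgq : g^[q] = id := funext fun d => Subtype.ext (by rw [hitg, hxq]; simp)
    intro d hd
    have h1 := congrArg Subtype.val (iterate_fix hq g hgq (by rw [hDc]; omega) ⟨d, hd⟩)
    exact mem_centralizer_singleton_iff.2 (mul_inv_eq_iff_eq_mul.1 h1).symm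
  have h := sup_le (key A (le_sup_right.trans_eq hE.symm) hA.2)
    (key _ (le_sup_right.trans hEq.ge) hB.2)
  rwa [← hEq] at h

/-- Conjugation by an element normalizing the pair. -/
theorem IsOne.conj_out (hA : IsOne p V H A) {x : G} (hxH : x ∈ normalizer (H : Set G))
    (hxV : x ∈ normalizer (V : Set G)) :
    IsOne p V H (A.map (MulAut.conj x).toMonoidHom) ∧
      block p H (A.map (MulAut.conj x).toMonoidHom) = (block p H A).map (MulAut.conj x).toMonoidHom ∧
      ⁅V, block p H (A.map (MulAut.conj x).toMonoidHom)⁆ =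
        (⁅V, block p H A⁆).map (MulAut.conj x).toMonoidHom := by
  have hV := Core.map_conj_eq_of_mem_normalizer hxV
  have hb : block p H (A.map (MulAut.conj x).toMonoidHom) = (block p H A).map (MulAut.conj x).toMonoidHom := by
    have hQ : (core p H).map (MulAut.conj x).toMonoidHom = core p H :=
      Core.map_conj_eq_of_mem_normalizer (Core.normalizer_le_normalizer_map_char _ hxH)
    simp only [block, Subgroup.map_sup, map_commutator, hQ]
  refine ⟨⟨⟨(map_mono hA.1.le).trans (Core.map_conj_eq_of_mem_normalizer hxH).le,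
    PGroup.isElementaryAbelian_map hA.1.ea _, ?_⟩, ?_⟩, hb, ?_⟩
  · rw [card_map_of_injective (MulAut.conj x).injective]
    have h2 : (V ⊓ centralizer (A : Set G)).map (MulAut.conj x).toMonoidHom =
        V ⊓ centralizer ((A.map (MulAut.conj x).toMonoidHom : Subgroup G) : Set G) := by
      rw [map_inf _ _ _ (MulAut.conj x).injective, hV, map_conj_centralizer]
    rw [← h2, card_map_of_injective (MulAut.conj x).injective]
    exact hA.1.card
  · rw [card_map_of_injective (MulAut.conj x).injective]; exact hA.2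
  · rw [hb, map_commutator, hV]

/-- A conjugate block is the same or is far away. -/
theorem conj_block_cases (hs : Setup p V H) (hA : IsOne p V H A) {x : G} (hxH : x ∈ normalizer (H : Set G))
    (hxV : x ∈ normalizer (V : Set G)) :
    x ∈ normalizer ((block p H A : Subgroup G) : Set G) ∨
      ((block p H A).map (MulAut.conj x).toMonoidHom ≤
          H ⊓ centralizer ((⁅V, block p H A⁆ : Subgroup G) : Set G) ∧
        (⁅V, block p H A⁆).map (MulAut.conj x).toMonoidHom ≤
          V ⊓ centralizer ((block p H A : Subgroup G) : Set G)) := by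
  obtain ⟨hB, hb, hw⟩ := hA.conj_out hxH hxV
  rcases dichotomy hs hA hB with h | ⟨h1, h2⟩
  · left
    rw [mem_normalizer_iff_map_conj_eq]
    exact hb.symm.trans (block_eq_of_le hs hA hB h)
  · right
    rw [← hb, ← hw]
    exact ⟨le_inf (block_le_H hB) h1, h2⟩

/-- Every element of a block lifts, modulo the other blocks, to a fixed point of `R`. -/
theorem exists_fixed_block (hs : Setup p V H) (hA : IsOne p V H A)
    (hgen : H = ⨆ A : {A : Subgroup G // A ≤ H ∧ Cfsg.IsBestOffenderOn p V A}, (A : Subgroup G))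
    (hRH : R ≤ normalizer (H : Set G)) (hRV : R ≤ normalizer (V : Set G)) (hq : q.Prime) (hq5 : 5 ≤ q)
    (hRq : ∀ x ∈ R, x ^ q = 1) {f : G} (hf : f ∈ block p H A) :
    ∃ d ∈ H ⊓ centralizer (R : Set G),
      d * f⁻¹ ∈ H ⊓ centralizer ((⁅V, block p H A⁆ : Subgroup G) : Set G) := by
  classical
  set E := block p H A with hE
  set F := H ⊓ centralizer ((⁅V, E⁆ : Subgroup G) : Set G) with hF
  haveI : Fintype R := Fintype.ofFinite _
  haveI : Fact q.Prime := ⟨hq⟩
  set Z := (Finset.univ : Finset R).filter (fun x : R => (x : G) ∈ normalizer (E : Set G)) with hZ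
  have hEF : ∀ a ∈ E, ∀ b ∈ F, Commute a b := fun a ha b hb => by
    have h := (split hs hA hgen).1
    rw [commutator_eq_bot_iff_le_centralizer] at h
    exact (mem_centralizer_iff.1 (h ha) b hb).symm
  -- the order of the stabilizer is prime to the block
  have hZc : (Nat.card E).Coprime Z.card := by
    have h1 : Z.card = Nat.card ↥((normalizer (E : Set G)).subgroupOf R) := by
      rw [Nat.card_eq_fintype_card, ← Fintype.card_subtype]
      rfl
    have hRp : IsPGroup q R := fun a => ⟨1, Subtype.ext (by rw [pow_one]; exact hRq a a.2)⟩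
    obtain ⟨n, hn⟩ := IsPGroup.iff_card.1 (hRp.to_subgroup ((normalizer (E : Set G)).subgroupOf R))
    rw [h1, hn]
    exact ((hq.coprime_iff_not_dvd.2 (not_dvd_card_block hs hA hq hq5)).symm).pow_right n
  obtain ⟨⟨e, he⟩, hef⟩ := (powCoprime hZc).surjective ⟨f, hf⟩
  have hef' : e ^ Z.card = f := congrArg Subtype.val hef
  let c : R → G := fun x => (x : G) * e * (x : G)⁻¹
  have hstab : ∀ x : R, (x : G) ∈ normalizer (E : Set G) → c x = e := fun x hx => by
    have h1 := mem_centralizer_singleton_iff.1 (centralizes_block hs hA hq hq5 (hRq x x.2) hx he)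
    show (x : G) * e * (x : G)⁻¹ = e
    rw [← h1, mul_inv_cancel_right]
  have hcF : ∀ x : R, (x : G) ∉ normalizer (E : Set G) → c x ∈ F := fun x hx => by
    rcases conj_block_cases hs hA (hRH x.2) (hRV x.2) with h | h
    · exact absurd h hx
    · exact h.1 ⟨e, he, rfl⟩
  have h1comm : ∀ z : R, Commute e (c z) := fun z => by
    by_cases hz : (z : G) ∈ normalizer (E : Set G)
    · rw [hstab z hz]
    · exact hEF e he _ (hcF z hz)
  have hcomm : ∀ x y : R, Commute (c x) (c y) := fun x y => by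
    have h := (h1comm (x⁻¹ * y)).map (MulAut.conj (x : G)).toMonoidHom
    have e1 : (MulAut.conj (x : G)).toMonoidHom (c (x⁻¹ * y)) = c y := by
      simp only [c, MulEquiv.coe_toMonoidHom, MulAut.conj_apply, Subgroup.coe_mul, Subgroup.coe_inv]
      group
    rw [e1] at h
    exact h
  set Ce := closure (Set.range c) with hCe
  haveI : IsMulCommutative Ce := by
    refine Subgroup.isMulCommutative_closure ?_
    rintro _ ⟨x, rfl⟩ _ ⟨y, rfl⟩
    exact hcomm x y
  have hmem : ∀ x : R, c x ∈ Ce := fun x => subset_closure ⟨x, rfl⟩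
  let c' : R → Ce := fun x => ⟨c x, hmem x⟩
  have hCeH : Ce ≤ H := by
    rw [hCe, closure_le]
    rintro _ ⟨x, rfl⟩
    exact (mem_normalizer_iff.1 (hRH x.2) e).1 (block_le_H hA he)
  refine ⟨((∏ x : R, c' x : Ce) : G), ⟨hCeH (Subtype.prop _), mem_centralizer_iff.2 fun y hy => ?_⟩, ?_⟩
  · have hyC : y ∈ normalizer (Ce : Set G) := by
      refine mem_normalizer_fintype fun z hz => ?_
      have h := mem_map_of_mem (MulAut.conj y).toMonoidHom hz
      rw [hCe, MonoidHom.map_closure] at h
      refine (closure_le Ce).2 ?_ h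
      rintro _ ⟨_, ⟨x, rfl⟩, rfl⟩
      refine subset_closure ⟨⟨y, hy⟩ * x, ?_⟩
      simp only [c, MulEquiv.coe_toMonoidHom, MulAut.conj_apply, Subgroup.coe_mul]
      group
    let ψ : Ce →* Ce :=
      { toFun := fun z => ⟨y * z * y⁻¹, (mem_normalizer_iff.1 hyC z).1 z.2⟩
        map_one' := Subtype.ext (by simp)
        map_mul' := fun a b => Subtype.ext (by simp [mul_assoc]) }
    have hψ : ψ (∏ x : R, c' x) = ∏ x : R, c' x := by
      rw [map_prod]
      refine Fintype.prod_equiv (Equiv.mulLeft (⟨y, hy⟩ : R)) _ _ fun x => Subtype.ext ?_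
      show y * ((x : G) * e * (x : G)⁻¹) * y⁻¹ = (y * (x : G)) * e * (y * (x : G))⁻¹
      group
    exact mul_inv_eq_iff_eq_mul.1 (congrArg Subtype.val hψ)
  · rw [← Finset.prod_filter_mul_prod_filter_not Finset.univ (fun x : R => (x : G) ∈ normalizer (E : Set G)),
      ← hZ]
    have hp1 : ((∏ x ∈ Z, c' x : Ce) : G) = f := by
      rw [Finset.prod_congr rfl (g := fun _ => (⟨e, by simpa [c] using hmem 1⟩ : Ce))
        (fun x hx => Subtype.ext (hstab x (Finset.mem_filter.1 hx).2)), Finset.prod_const, SubmonoidClass.coe_pow]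
      exact hef'
    have hp2 : ((∏ x ∈ Finset.univ.filter (fun x : R => (x : G) ∉ normalizer (E : Set G)), c' x : Ce) : G) ∈ F :=
      mem_subgroupOf.1 (Subgroup.prod_mem (F.subgroupOf Ce) fun x hx =>
        mem_subgroupOf.2 (hcF x (Finset.mem_filter.1 hx).2))
    rw [Subgroup.coe_mul, hp1, (hEF f hf _ hp2).eq, mul_inv_cancel_right]
    exact hp2

/-- Two subgroups of order `p` of a group whose order is not divisible by `p²` are conjugate. -/
theorem exists_conj_of_card_prime {E D D' : Subgroup G} (hD : D ≤ E) (hD' : D' ≤ E) (hc : Nat.card D = p)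
    (hc' : Nat.card D' = p) (hE : ¬ p ^ 2 ∣ Nat.card E) :
    ∃ e ∈ E, D.map (MulAut.conj e).toMonoidHom = D' := by
  have mk : ∀ {K : Subgroup G}, K ≤ E → Nat.card K = p →
      ∃ S : Sylow p ↥E, (S : Subgroup ↥E) = K.subgroupOf E := by
    intro K hK hKc
    have hpg : IsPGroup p (K.subgroupOf E) :=
      IsPGroup.of_card (n := 1) (by rw [Nat.card_congr (subgroupOfEquivOfLe hK).toEquiv, hKc, pow_one])
    refine ⟨hpg.toSylow fun hd => hE ?_, rfl⟩
    rw [← card_mul_index (K.subgroupOf E), Nat.card_congr (subgroupOfEquivOfLe hK).toEquiv, hKc, sq]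
    exact Nat.mul_dvd_mul_left p hd
  obtain ⟨S, hS⟩ := mk hD hc
  obtain ⟨S', hS'⟩ := mk hD' hc'
  obtain ⟨g, hg⟩ := MulAction.exists_smul_eq ↥E S S'
  refine ⟨g, g.2, ?_⟩
  have h := congrArg Sylow.toSubgroup hg
  rw [Sylow.coe_subgroup_smul, hS, hS', Core.conj_smul_eq_map] at h
  rw [← map_subgroupOf_eq_of_le hD', ← h]
  conv_lhs => rw [← map_subgroupOf_eq_of_le hD]
  rw [Subgroup.map_map, Subgroup.map_map]
  rfl

/-- A subgroup containing a Sylow subgroup and the fixed points of `R` contains `H`. -/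
theorem le_of_operator (hs : Setup p V H)
    (hgen : H = ⨆ A : {A : Subgroup G // A ≤ H ∧ Cfsg.IsBestOffenderOn p V A}, (A : Subgroup G))
    (hRH : R ≤ normalizer (H : Set G)) (hRV : R ≤ normalizer (V : Set G)) (hq : q.Prime) (hq5 : 5 ≤ q)
    (hRq : ∀ x ∈ R, x ^ q = 1) {T M : Subgroup G} (hTM : T ≤ M)
    (hT : ∀ A, IsOne p V H A → ∃ h ∈ H, A.map (MulAut.conj h).toMonoidHom ≤ T)
    (hC : H ⊓ centralizer (R : Set G) ≤ M) : H ≤ M := by
  refine hs.le_of_forall hgen fun B hB => ?_
  obtain ⟨h, hh, hhT⟩ := hT B hB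
  obtain ⟨hA, -⟩ := hB.conj hs hh
  obtain ⟨-, -, -, hnormB⟩ := split hs hB hgen
  set A' := B.map (MulAut.conj h).toMonoidHom with hA'
  set E := block p H B with hE
  have hAE : A' ≤ E := (map_mono le_sup_right).trans (Core.map_conj_eq_of_mem_normalizer (hnormB hh)).le
  obtain ⟨e, he, heq⟩ := exists_conj_of_card_prime (p := p) hAE (le_sup_right : B ≤ E) hA.2 hB.2 (by
    rcases card_block_cases hs hB with ⟨hp2, h1⟩ | ⟨hp2, h1⟩ <;> rw [h1, hp2] <;> norm_num)
  obtain ⟨d, hd, hdf⟩ := exists_fixed_block hs hB hgen hRH hRV hq hq5 hRq he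
  rw [← heq]
  rintro _ ⟨a, ha, rfl⟩
  show e * a * e⁻¹ ∈ M
  have h1 := (split hs hB hgen).1
  rw [commutator_eq_bot_iff_le_centralizer] at h1
  have h2 := mem_centralizer_iff.1 (h1 (E.mul_mem (E.mul_mem he (hAE ha)) (E.inv_mem he))) _ hdf
  have h3 : d * a * d⁻¹ = e * a * e⁻¹ := by
    calc d * a * d⁻¹ = (d * e⁻¹) * (e * a * e⁻¹) * (d * e⁻¹)⁻¹ := by group
      _ = _ := by rw [h2, mul_inv_cancel_right]
  rw [← h3]
  exact M.mul_mem (M.mul_mem (hC hd) (hTM (hhT ha))) (M.inv_mem (hC hd))

/-- An element of order dividing `q` normalizing a block centralizes its plane. -/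
theorem centralizes_plane (hs : Setup p V H) (hA : IsOne p V H A) (hq : q.Prime) (hq5 : 5 ≤ q) {x : G}
    (hxq : x ^ q = 1) (hxV : x ∈ normalizer (V : Set G))
    (hx : x ∈ normalizer ((block p H A : Subgroup G) : Set G)) :
    ⁅V, block p H A⁆ ≤ centralizer ({x} : Set G) := by
  have hE := centralizes_block hs hA hq hq5 hxq hx
  have hp3 : p ≤ 3 := by rcases (block_iso hs hA).1 with rfl | rfl <;> omega
  obtain ⟨y, -, hEq, hB, hd, -, -⟩ := exists_pair hs hA
  rw [hEq] at hE
  rw [hEq, hd.eq]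
  have key : ∀ C : Subgroup G, IsOne p V H C → C ≤ centralizer ({x} : Set G) →
      ⁅V, C⁆ ≤ centralizer ({x} : Set G) := by
    intro C hC hCx
    have hn : C.map (MulAut.conj x).toMonoidHom = C := by
      refine eq_of_le_of_card_ge ?_ (by rw [card_map_of_injective (MulAut.conj x).injective])
      rintro _ ⟨c, hc, rfl⟩
      show x * c * x⁻¹ ∈ C
      rw [← mem_centralizer_singleton_iff.1 (hCx hc), mul_inv_cancel_right]
      exact hc
    have hDx : (⁅V, C⁆).map (MulAut.conj x).toMonoidHom = ⁅V, C⁆ := by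
      rw [map_commutator, Core.map_conj_eq_of_mem_normalizer hxV, hn]
    let g : ↥⁅V, C⁆ → ↥⁅V, C⁆ := fun d => ⟨x * d * x⁻¹, hDx.le ⟨d, d.2, rfl⟩⟩
    have hitg : ∀ (k : ℕ) (d : ↥⁅V, C⁆), ((g^[k] d : ↥⁅V, C⁆) : G) = x ^ k * d * (x ^ k)⁻¹ := by
      intro k
      induction k with
      | zero => intro d; simp
      | succ k ih =>
        intro d
        rw [Function.iterate_succ_apply']
        show x * ((g^[k] d : ↥⁅V, C⁆) : G) * x⁻¹ = _
        rw [ih, pow_succ']; group
    have hgq : g^[q] = id := funext fun d => Subtype.ext (by rw [hitg, hxq]; simp)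
    intro d hd
    have h1 := congrArg Subtype.val (iterate_fix hq g hgq (by rw [(hC.line hs).1]; omega) ⟨d, hd⟩)
    exact mem_centralizer_singleton_iff.2 (mul_inv_eq_iff_eq_mul.1 h1).symm
  exact sup_le (key A hA (le_sup_left.trans hE)) (key _ hB (le_sup_right.trans hE))

/-- The fixed points of `R` induce `SL₂(p)` on a plane they centralize. -/
theorem exists_fixed_plane (hs : Setup p V H) (hA : IsOne p V H A)
    (hgen : H = ⨆ A : {A : Subgroup G // A ≤ H ∧ Cfsg.IsBestOffenderOn p V A}, (A : Subgroup G))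
    (hRH : R ≤ normalizer (H : Set G)) (hRV : R ≤ normalizer (V : Set G)) (hq : q.Prime) (hq5 : 5 ≤ q)
    (hRq : ∀ x ∈ R, x ^ q = 1) :
    ∃ W : Subgroup G, W ≤ V ⊓ centralizer (R : Set G) ∧ Nat.card W = p ^ 2 ∧
      H ⊓ centralizer (R : Set G) ≤ normalizer (W : Set G) ∧
      ∃ φ : ↥(H ⊓ centralizer (R : Set G)) →* ↥(block p H A), Function.Surjective φ ∧
        φ.ker = (centralizer (W : Set G)).subgroupOf (H ⊓ centralizer (R : Set G)) := by
  classical
  haveI : Fintype R := Fintype.ofFinite _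
  haveI : Fact q.Prime := ⟨hq⟩
  haveI := hs.hV.1
  obtain ⟨hWV, hWc, hWC, -, hEf, -⟩ := plane_facts hs hA
  obtain ⟨-, hsup, -, hnorm⟩ := split hs hA hgen
  set E := block p H A with hE
  set W₁ := ⁅V, E⁆ with hW₁
  set F := H ⊓ centralizer (W₁ : Set G) with hF
  set D := H ⊓ centralizer (R : Set G) with hD
  have hHW : H ≤ normalizer (W₁ : Set G) := le_normalizer_commutator hs.hHV hnorm
  let cV : R → ↥V →* ↥V := fun x =>
    { toFun := fun v => ⟨x * v * (x : G)⁻¹, (mem_normalizer_iff.1 (hRV x.2) v).1 v.2⟩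
      map_one' := Subtype.ext (by simp)
      map_mul' := fun a b => Subtype.ext (by simp [mul_assoc]) }
  let τ : ↥V →* ↥V :=
    { toFun := fun v => ∏ x : R, cV x v
      map_one' := by simp
      map_mul' := fun a b => by simp only [map_mul, Finset.prod_mul_distrib] }
  let tr : ↥W₁ →* G := V.subtype.comp (τ.comp (Subgroup.inclusion hWV))
  -- equivariance
  have hequiv : ∀ h ∈ D, ∀ w : ↥W₁, ∀ w' : ↥W₁, (w' : G) = h * w * h⁻¹ → tr w' = h * tr w * h⁻¹ := by
    intro h hh w w' hw'
    have hhV := mem_normalizer_iff.1 (hs.hHV hh.1)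
    let cH : ↥V →* ↥V :=
      { toFun := fun v => ⟨h * v * h⁻¹, (hhV v).1 v.2⟩
        map_one' := Subtype.ext (by simp)
        map_mul' := fun a b => Subtype.ext (by simp [mul_assoc]) }
    have h1 : cH (τ (Subgroup.inclusion hWV w)) = τ (Subgroup.inclusion hWV w') := by
      show cH (∏ x : R, cV x _) = ∏ x : R, cV x _
      rw [map_prod]
      refine Finset.prod_congr rfl fun x _ => Subtype.ext ?_
      show h * ((x : G) * w * (x : G)⁻¹) * h⁻¹ = (x : G) * w' * (x : G)⁻¹
      have h2 : (x : G) * h = h * x := mem_centralizer_iff.1 hh.2 x x.2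
      calc h * ((x : G) * w * (x : G)⁻¹) * h⁻¹ = (h * x) * w * (h * x)⁻¹ := by group
        _ = (x * h) * w * (x * h)⁻¹ := by rw [h2]
        _ = _ := by rw [hw']; group
    exact (congrArg Subtype.val h1).symm
  -- fixed
  have hfix : ∀ w : ↥W₁, tr w ∈ centralizer (R : Set G) := by
    refine fun w => mem_centralizer_iff.2 fun y hy => ?_
    have h1 : cV ⟨y, hy⟩ (τ (Subgroup.inclusion hWV w)) = τ (Subgroup.inclusion hWV w) := by
      show cV ⟨y, hy⟩ (∏ x : R, cV x _) = ∏ x : R, cV x _
      rw [map_prod]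
      refine Fintype.prod_equiv (Equiv.mulLeft (⟨y, hy⟩ : R)) _ _ fun x => Subtype.ext ?_
      show y * ((x : G) * w * (x : G)⁻¹) * y⁻¹ = (y * (x : G)) * w * (y * (x : G))⁻¹
      group
    exact mul_inv_eq_iff_eq_mul.1 (congrArg Subtype.val h1)
  -- injective
  have hinj : Function.Injective tr := by
    rw [← MonoidHom.ker_eq_bot_iff, eq_bot_iff]
    intro w hw
    rw [MonoidHom.mem_ker] at hw
    have hw' : τ (Subgroup.inclusion hWV w) = 1 := Subtype.ext hw
    set w₀ := Subgroup.inclusion hWV w with hw₀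
    change ∏ x : R, cV x w₀ = 1 at hw'
    set Z := (Finset.univ : Finset R).filter (fun x : R => (x : G) ∈ normalizer (E : Set G)) with hZ
    rw [← Finset.prod_filter_mul_prod_filter_not Finset.univ
      (fun x : R => (x : G) ∈ normalizer (E : Set G)), ← hZ] at hw'
    have hp1 : ∏ x ∈ Z, cV x w₀ = w₀ ^ Z.card := by
      rw [Finset.prod_congr rfl (g := fun _ => w₀), Finset.prod_const]
      intro x hx
      refine Subtype.ext ?_
      have := mem_centralizer_singleton_iff.1 (centralizes_plane hs hA hq hq5 (hRq x x.2) (hRV x.2)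
        (Finset.mem_filter.1 hx).2 w.2)
      show (x : G) * w * (x : G)⁻¹ = w
      rw [← this, mul_inv_cancel_right]
    have hp2 : (∏ x ∈ Finset.univ.filter (fun x : R => (x : G) ∉ normalizer (E : Set G)), cV x w₀) ∈
        (V ⊓ centralizer (E : Set G)).subgroupOf V := by
      refine Subgroup.prod_mem _ fun x hx => mem_subgroupOf.2 ?_
      rcases conj_block_cases hs hA (hRH x.2) (hRV x.2) with h | h
      · exact absurd h (Finset.mem_filter.1 hx).2
      · exact h.2 ⟨w, w.2, rfl⟩
    rw [hp1] at hw'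
    have h3 : w₀ ^ Z.card ∈ (V ⊓ centralizer (E : Set G)).subgroupOf V := by
      rw [mul_eq_one_iff_eq_inv.1 hw']
      exact inv_mem hp2
    have h4 : w ^ Z.card = 1 := by
      refine Subtype.ext (mem_bot.1 (hWC.le ⟨(w ^ Z.card).2, ?_⟩))
      have := mem_subgroupOf.1 h3
      rw [SubmonoidClass.coe_pow] at this ⊢
      exact this
    have hcop : (Nat.card W₁).Coprime Z.card := by
      have h1 : Z.card = Nat.card ↥((normalizer (E : Set G)).subgroupOf R) := by
        rw [Nat.card_eq_fintype_card, ← Fintype.card_subtype]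
        rfl
      have hRp : IsPGroup q R := fun a => ⟨1, Subtype.ext (by rw [pow_one]; exact hRq a a.2)⟩
      obtain ⟨n, hn⟩ := IsPGroup.iff_card.1 (hRp.to_subgroup ((normalizer (E : Set G)).subgroupOf R))
      rw [h1, hn, hWc]
      refine Nat.Coprime.pow _ _ ((Nat.coprime_primes hp.out hq).2 ?_)
      have := (block_iso hs hA).1
      omega
    exact mem_bot.2 ((powCoprime hcop).injective (h4.trans (one_pow _).symm))
  have hDW : ∀ h ∈ D, h ∈ normalizer ((tr.range : Subgroup G) : Set G) := by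
    refine fun h hh => mem_normalizer_fintype ?_
    rintro _ ⟨w, rfl⟩
    exact ⟨⟨h * w * h⁻¹, (mem_normalizer_iff.1 (hHW hh.1) w).1 w.2⟩, hequiv h hh w _ rfl⟩
  refine ⟨tr.range, ?_, ?_, hDW, ?_⟩
  · rintro _ ⟨w, rfl⟩
    exact ⟨(τ (Subgroup.inclusion hWV w)).2, hfix w⟩
  · rw [← Nat.card_congr (MonoidHom.ofInjective hinj).toEquiv, hWc]
  haveI : (F.subgroupOf H).Normal := (normal_subgroupOf_iff_le_normalizer inf_le_left).2
    (le_normalizer_fixed le_normalizer hHW)
  let π : ↥E →* ↥H ⧸ F.subgroupOf H :=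
    (QuotientGroup.mk' _).comp (Subgroup.inclusion (block_le_H hA))
  have hπ : Function.Bijective π := by
    constructor
    · rw [← MonoidHom.ker_eq_bot_iff, eq_bot_iff]
      intro e he
      rw [MonoidHom.mem_ker, MonoidHom.comp_apply, QuotientGroup.mk'_apply, QuotientGroup.eq_one_iff,
        mem_subgroupOf] at he
      exact mem_bot.2 (Subtype.ext (mem_bot.1 (hEf.le ⟨e.2, he.2⟩)))
    · intro y
      obtain ⟨⟨y, hy⟩, rfl⟩ := QuotientGroup.mk_surjective y
      obtain ⟨a, ha, b, hb, hab⟩ := Coprime.exists_mul_of_mem_sup (inf_le_left.trans hnorm) (hsup.ge hy)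
      refine ⟨⟨a, ha⟩, QuotientGroup.eq.2 (mem_subgroupOf.2 ?_)⟩
      show a⁻¹ * y ∈ F
      rw [hab, inv_mul_cancel_left]
      exact hb
  let φ : ↥D →* ↥E := (MulEquiv.ofBijective π hπ).symm.toMonoidHom.comp
    ((QuotientGroup.mk' _).comp (Subgroup.inclusion (inf_le_left : D ≤ H)))
  have hφ : ∀ h : ↥D, π (φ h) = QuotientGroup.mk' _ (Subgroup.inclusion (inf_le_left : D ≤ H) h) :=
    fun h => (MulEquiv.ofBijective π hπ).apply_symm_apply _
  refine ⟨φ, fun e => ?_, ?_⟩
  · obtain ⟨d, hd, hdf⟩ := exists_fixed_block hs hA hgen hRH hRV hq hq5 hRq e.2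
    refine ⟨⟨d, hd⟩, hπ.1 ((hφ _).trans (Eq.symm (QuotientGroup.eq.2 (mem_subgroupOf.2 ?_))))⟩
    show (e : G)⁻¹ * d ∈ F
    have := (mem_normalizer_iff.1 ((inf_le_left : D ≤ H).trans le_rfl |> fun _ =>
      le_normalizer_fixed le_normalizer hHW (H.inv_mem (block_le_H hA e.2))) _).1 hdf
    simpa [mul_assoc, hF] using this
  · ext h
    have h0 : φ h = 1 ↔ (h : G) ∈ F := by
      rw [← hπ.1.eq_iff, hφ, map_one, QuotientGroup.mk'_apply, QuotientGroup.eq_one_iff, mem_subgroupOf]
      rfl
    rw [MonoidHom.mem_ker, h0, mem_subgroupOf]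
    constructor
    · intro hh
      refine mem_centralizer_iff.2 ?_
      rintro _ ⟨w, rfl⟩
      have h1 : (w : G) = (h : G) * w * (h : G)⁻¹ := by
        rw [show (h : G) * w = w * h from (mem_centralizer_iff.1 hh.2 w w.2).symm, mul_inv_cancel_right]
      exact (mul_inv_eq_iff_eq_mul.1 (hequiv h h.2 w w h1).symm).symm
    · intro hh
      refine ⟨h.2.1, mem_centralizer_iff.2 fun w hw => ?_⟩
      have h1 := hequiv h h.2 ⟨w, hw⟩ ⟨(h : G) * w * (h : G)⁻¹, (mem_normalizer_iff.1 (hHW h.2.1) w).1 hw⟩ rfl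
      rw [show (h : G) * tr ⟨w, hw⟩ = tr ⟨w, hw⟩ * h from (mem_centralizer_iff.1 hh _ ⟨_, rfl⟩).symm,
        mul_inv_cancel_right] at h1
      exact (mul_inv_eq_iff_eq_mul.1 (congrArg Subtype.val (hinj h1))).symm

end Cfsg.Lib.Local.FF
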