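import Cfsg.Agent.Lib.Local.FF.Model
import Cfsg.Agent.Lib.Local.FF.Operator
import Cfsg.Agent.S0608
import Cfsg.Agent.S0600

/-!
# An operator group on a group with trivial `p'`-core in which the Thompson factorization fails

`j : K₀ → G` is injective with normal range; `X ≤ G` has exponent `q`, `q ∤ |K₀|`.
-/

set_option autoImplicit false
set_option linter.style.haveILetI false

namespace Cfsg.Lib.Local.FF

open Subgroup
open scoped commutatorElement

universe u v

variable {G : Type u} [Group G] [Finite G] {K₀ : Type v} [Group K₀] [Finite K₀] {p : ℕ} [hp : Fact p.Prime]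

/-- An invariant subgroup of `K₀` maps to a normal subgroup. -/
theorem map_normal_of_invariant {j : K₀ →* G} (hj : Function.Injective j) (hjn : j.range.Normal)
    {U : Subgroup K₀} (hU : ∀ e : K₀ ≃* K₀, U.map e.toMonoidHom ≤ U) : (U.map j).Normal := by
  haveI := hjn
  refine ⟨?_⟩
  rintro _ ⟨v, hv, rfl⟩ g
  let e : K₀ ≃* K₀ := ((MonoidHom.ofInjective hj).trans (MulAut.conjNormal g)).trans (MonoidHom.ofInjective hj).symm
  refine ⟨e v, hU e ⟨v, hv, rfl⟩, ?_⟩
  simp only [e, MulEquiv.trans_apply, MonoidHom.apply_ofInjective_symm, MulAut.conjNormal_apply]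
  rfl

theorem sylowOmega_invariant (e : K₀ ≃* K₀) :
    (⨆ S : Sylow p K₀, Cfsg.omegaOne p ((S : Subgroup K₀) ⊓ centralizer ((S : Subgroup K₀) : Set K₀))).map
        e.toMonoidHom ≤
      ⨆ S : Sylow p K₀, Cfsg.omegaOne p ((S : Subgroup K₀) ⊓ centralizer ((S : Subgroup K₀) : Set K₀)) := by
  rw [Subgroup.map_iSup]
  refine iSup_le fun S => le_iSup_of_le (S.mapSurjective (f := e.toMonoidHom) (show Function.Surjective e.toMonoidHom from e.surjective)) ?_
  rw [Cfsg.omegaOne, MonoidHom.map_closure, Sylow.coe_mapSurjective]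
  refine closure_mono ?_
  rintro _ ⟨x, ⟨⟨hxS, hxC⟩, hxp⟩, rfl⟩
  refine ⟨⟨⟨x, hxS, rfl⟩, mem_centralizer_iff.2 ?_⟩, by rw [← map_pow, hxp, map_one]⟩
  rintro _ ⟨s, hs, rfl⟩
  rw [← map_mul, ← map_mul, mem_centralizer_iff.1 hxC s hs]

/-- The pair attached to `V₀` in the model over `G`. -/
theorem setup_operator (j : K₀ →* G) (hj : Function.Injective j) (hsep : Cfsg.IsPSolvable p K₀)
    (V₀ : Subgroup K₀) [V₀.Normal] [(V₀.map j).Normal] [(((Cfsg.thompsonSubgroup p K₀)).map j).Normal]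
    (hV₀ : Cfsg.IsElementaryAbelian p V₀) (hpc : Cfsg.pCore p (K₀ ⧸ centralizer (V₀ : Set K₀)) = ⊥) :
    ((toModel (V₀.map j)).comp j).ker = centralizer (V₀ : Set K₀) ∧
      Setup p (modV (V₀.map j)) ((Cfsg.thompsonSubgroup p K₀).map ((toModel (V₀.map j)).comp j)) ∧
      (Cfsg.thompsonSubgroup p K₀).map ((toModel (V₀.map j)).comp j) =
        ⨆ A : {A : Subgroup (Model (V₀.map j)) //
          A ≤ (Cfsg.thompsonSubgroup p K₀).map ((toModel (V₀.map j)).comp j) ∧
            Cfsg.IsBestOffenderOn p (modV (V₀.map j)) A}, (A : Subgroup (Model (V₀.map j))) := by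
  set V := V₀.map j with hVdef
  set f := (toModel V).comp j with hf
  have hVe : Cfsg.IsElementaryAbelian p V := Thompson.isEA_map j hV₀
  have hker : f.ker = centralizer (V₀ : Set K₀) := by
    ext k
    rw [hf, ← MonoidHom.comap_ker, mem_comap, toModel_ker, mem_centralizer_iff, mem_centralizer_iff]
    constructor
    · intro h v hv
      exact hj (by rw [map_mul, map_mul]; exact h _ ⟨v, hv, rfl⟩)
    · rintro h _ ⟨v, hv, rfl⟩
      rw [← map_mul, ← map_mul, h v hv]
  set J := Cfsg.thompsonSubgroup p K₀ with hJ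
  set H := J.map f with hH
  refine ⟨hker, ⟨isEA_modV V hVe, ?_, ?_, ?_⟩, ?_⟩
  · rw [hH, hf, ← Subgroup.map_map]
    exact map_le_normalizer_modV V (J.map j)
  · rw [hH, hf, ← Subgroup.map_map]
    exact modV_centralizer_inf V (J.map j)
  · refine centralizer_pPrimeCore_le (Core.isPSolvable_of_surjective (f.subgroupMap J)
      (f.subgroupMap_surjective J) (Core.isPSolvable_subgroup hsep J)) ?_
    set R := f.range with hR
    have hRbot : Cfsg.pCore p ↥R = ⊥ := by
      let e : K₀ ⧸ centralizer (V₀ : Set K₀) ≃* ↥R :=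
        (QuotientGroup.quotientMulEquivOfEq hker.symm).trans (QuotientGroup.quotientKerEquivRange f)
      rw [← Core.map_pCore_equiv e, hpc, Subgroup.map_bot]
    set N := (Cfsg.pCore p ↥H).map H.subtype with hN
    have hHR : H ≤ R := map_le_range _ _
    have hRH : R ≤ normalizer (H : Set (Model V)) := by
      rintro _ ⟨g, rfl⟩
      refine mem_normalizer_fintype ?_
      rintro _ ⟨k, hk, rfl⟩
      exact ⟨g * k * g⁻¹, (inferInstance : J.Normal).conj_mem k hk g, by simp⟩
    haveI : (N.subgroupOf R).Normal := (normal_subgroupOf_iff_le_normalizer ((map_subtype_le _).trans hHR)).2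
      (hRH.trans (Core.normalizer_le_normalizer_map_char _))
    have hNp : IsPGroup p (N.subgroupOf R) := ((Core.pCore_isPGroup p ↥H).map H.subtype).of_equiv
      (subgroupOfEquivOfLe ((map_subtype_le _).trans hHR)).symm
    have h := Core.le_pCore (N := N.subgroupOf R) hNp
    rw [hRbot, le_bot_iff, subgroupOf_eq_bot, disjoint_iff, inf_eq_left.2 ((map_subtype_le _).trans hHR),
      Subgroup.map_eq_bot_iff_of_injective _ H.subtype_injective] at h
    exact h
  · refine le_antisymm ?_ (iSup_le fun A => A.2.1)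
    rw [hH, map_le_iff_le_comap, hJ]
    refine sSup_le fun A hA => map_le_iff_le_comap.1 ?_
    have hbest : Cfsg.IsBestOffenderOn p (modV V) ((A.map j).map (toModel V)) := by
      refine best_of_maxEA' V hVe ⟨Thompson.isEA_map j hA.1, fun B hB hBe => ?_⟩
      have hBr : B ≤ j.range := hB.trans (sup_le (map_le_range _ _) (map_le_range _ _))
      have hBc : Cfsg.IsElementaryAbelian p (B.comap j) :=
        ⟨⟨⟨fun a b => Subtype.ext (hj (by
            show j ((a : K₀) * b) = j ((b : K₀) * a)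
            rw [map_mul, map_mul]; exact (Thompson.isEA_commute hBe a.2 b.2).eq))⟩⟩,
          fun a ha => hj (by rw [map_pow, map_one, hBe.2 _ ha])⟩
      rw [← map_comap_eq_self hBr, card_map_of_injective hj, card_map_of_injective hj]
      exact hA.2 _ hBc
    rw [Subgroup.map_map] at hbest
    exact le_iSup_of_le (ι := {A : Subgroup (Model V) // A ≤ J.map f ∧
      Cfsg.IsBestOffenderOn p (modV V) A}) ⟨A.map f, map_mono (le_sSup hA), hbest⟩ le_rfl

/-- A block exists and `q ≥ 5`. -/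
theorem exists_block_operator {j : K₀ →* G} {V₀ : Subgroup K₀} [V₀.Normal] [(V₀.map j).Normal]
    {H : Subgroup (Model (V₀.map j))} (hH : H = (Cfsg.thompsonSubgroup p K₀).map ((toModel (V₀.map j)).comp j))
    (hker : ((toModel (V₀.map j)).comp j).ker = centralizer (V₀ : Set K₀))
    (hs : Setup p (modV (V₀.map j)) H)
    (hgen : H = ⨆ A : {A : Subgroup (Model (V₀.map j)) // A ≤ H ∧
      Cfsg.IsBestOffenderOn p (modV (V₀.map j)) A}, (A : Subgroup (Model (V₀.map j))))
    (hnf : ¬ Cfsg.thompsonSubgroup p K₀ ≤ centralizer (V₀ : Set K₀))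
    {q : ℕ} (hq : q.Prime) (hnd : ¬ q ∣ Nat.card K₀) :
    ∃ A, IsOne p (modV (V₀.map j)) H A ∧ (p = 2 ∨ p = 3) ∧ 5 ≤ q := by
  obtain ⟨A, hA⟩ : ∃ A, IsOne p (modV (V₀.map j)) H A := by
    by_contra hcon
    push Not at hcon
    have hbot : H = ⊥ := le_bot_iff.1 (hs.le_of_forall hgen fun B hB => absurd hB (hcon B))
    rw [hH, Subgroup.map_eq_bot_iff, hker] at hbot
    exact hnf hbot
  refine ⟨A, hA, (block_iso hs hA).1, ?_⟩
  have h6 : 6 ∣ Nat.card K₀ := by
    refine dvd_trans ?_ (((card_dvd_of_le (block_le_H hA)).trans (hH ▸ card_map_dvd _ _)).trans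
      (card_subgroup_dvd_card _))
    rcases card_block_cases hs hA with ⟨-, h⟩ | ⟨-, h⟩ <;> rw [h] <;> norm_num
  have h2 := hq.two_le
  by_contra h5
  refine hnd (dvd_trans ?_ h6)
  have h23 : q = 2 ∨ q = 3 := by
    rcases Nat.lt_or_ge q 4 with h | h
    · omega
    · obtain rfl : q = 4 := by omega
      norm_num at hq
  rcases h23 with rfl | rfl <;> norm_num

theorem coprime_operator {j : K₀ →* G} {X : Subgroup G} {q : ℕ} (hq : q.Prime) (hXq : ∀ x ∈ X, x ^ q = 1)
    (hnd : ¬ q ∣ Nat.card K₀) (J : Subgroup K₀) : (Nat.card X).Coprime (Nat.card (J.map j)) := by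
  haveI : Fact q.Prime := ⟨hq⟩
  have hXp : IsPGroup q X := fun a => ⟨1, Subtype.ext (by rw [pow_one]; exact hXq a a.2)⟩
  obtain ⟨n, hn⟩ := IsPGroup.iff_card.1 hXp
  rw [hn]
  exact ((hq.coprime_iff_not_dvd.2 fun h => hnd (h.trans ((card_map_dvd _ _).trans
    (card_subgroup_dvd_card _))))).pow_left n

/-- Generation by the normalizer of `J(S)`, the centralizer of `Ω₁Z(S)` and the fixed points. -/
theorem generation_of_operator (j : K₀ →* G) (hj : Function.Injective j) (hjn : j.range.Normal)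
    (X : Subgroup G) {q : ℕ} (hq : q.Prime) (hXq : ∀ x ∈ X, x ^ q = 1) (hXc : IsMulCommutative X)
    (hnd : ¬ q ∣ Nat.card K₀) (hsep : Cfsg.IsPSolvable p K₀) (hO : Cfsg.pPrimeCore p K₀ = ⊥)
    (S : Sylow p K₀) :
    normalizer ((Cfsg.thompsonSubgroupOf p (S : Subgroup K₀) : Subgroup K₀) : Set K₀) ⊔
      centralizer (Cfsg.omegaOne p ((S : Subgroup K₀) ⊓ centralizer ((S : Subgroup K₀) : Set K₀)) : Set K₀) ⊔
      (centralizer (X : Set G)).comap j = ⊤ := by
  set M := normalizer ((Cfsg.thompsonSubgroupOf p (S : Subgroup K₀) : Subgroup K₀) : Set K₀) ⊔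
      centralizer (Cfsg.omegaOne p ((S : Subgroup K₀) ⊓ centralizer ((S : Subgroup K₀) : Set K₀)) : Set K₀) ⊔
      (centralizer (X : Set G)).comap j with hM
  obtain ⟨hVn, hV₀, -⟩ := Cfsg.Agent.S0601.result (p := p) (Core.centralizer_pCore_le_of_isPSolvable hsep hO)
  set V₀ := ⨆ T : Sylow p K₀, Cfsg.omegaOne p ((T : Subgroup K₀) ⊓ centralizer ((T : Subgroup K₀) : Set K₀))
    with hV₀def
  by_cases hf : Cfsg.IsThompsonFactorizable p K₀
  · refine eq_top_iff.2 fun g _ => ?_
    obtain ⟨x, hx, c, hc, n, hn, rfl⟩ := hf S g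
    rw [hO, mem_bot] at hx
    rw [hx, one_mul]
    exact M.mul_mem (mem_sup_left (mem_sup_right hc)) (mem_sup_left (mem_sup_left hn))
  rw [Cfsg.Agent.S0608.result hO] at hf
  haveI := hVn
  haveI : (V₀.map j).Normal := map_normal_of_invariant hj hjn sylowOmega_invariant
  haveI : ((Cfsg.thompsonSubgroup p K₀).map j).Normal :=
    map_normal_of_invariant hj hjn fun e => Thompson.map_thompson_le e
  have hgenV : V₀ = ⨆ T : Sylow p K₀, V₀ ⊓ centralizer ((T : Subgroup K₀) : Set K₀) :=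
    le_antisymm (iSup_le fun T => le_trans (le_inf (le_iSup (fun T : Sylow p K₀ => Cfsg.omegaOne p
      ((T : Subgroup K₀) ⊓ centralizer ((T : Subgroup K₀) : Set K₀))) T)
        ((Cfsg.Agent.S0601.sylowOmega_le T).trans inf_le_right))
      (le_iSup (fun T : Sylow p K₀ => V₀ ⊓ centralizer ((T : Subgroup K₀) : Set K₀)) T))
      (iSup_le fun T => inf_le_left)
  obtain ⟨hker, hs, hgen⟩ := setup_operator j hj hsep V₀ hV₀ (Cfsg.Agent.S0600.result V₀ hV₀ hgenV)
  set V := V₀.map j with hVdef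
  set J := Cfsg.thompsonSubgroup p K₀ with hJ
  set f := (toModel V).comp j with hfdef
  set H := J.map f with hH
  obtain ⟨-, -, -, hq5⟩ := exists_block_operator rfl hker hs hgen hf hq hnd
  have hker' : f.ker ≤ M := hker.le.trans ((centralizer_le (le_iSup (fun T : Sylow p K₀ => Cfsg.omegaOne p
    ((T : Subgroup K₀) ⊓ centralizer ((T : Subgroup K₀) : Set K₀))) S)).trans
      (le_sup_right.trans le_sup_left))
  have hSM : (S : Subgroup K₀) ≤ normalizer ((Cfsg.thompsonSubgroupOf p (S : Subgroup K₀) : Subgroup K₀) : Set K₀) :=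
    (le_normalizer.trans (Core.normalizer_le_normalizer_map_char (Cfsg.thompsonSubgroup p (S : Subgroup K₀))))
  obtain ⟨T', hT'⟩ := exists_sylow_inf S J
  have hR : ∀ y ∈ X.map (toModel V), y ^ q = 1 := by
    rintro _ ⟨x, hx, rfl⟩
    rw [← map_pow, hXq x hx, map_one]
  have hHJ : H = (J.map j).map (toModel V) := by rw [hH, hfdef, ← Subgroup.map_map]
  have hHM : H ≤ M.map f := by
    refine le_of_operator hs hgen (R := X.map (toModel V)) ?_ (map_le_normalizer_modV V X) hq hq5 hR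
      (T := ((S : Subgroup K₀) ⊓ J).map f) (map_mono (inf_le_left.trans (hSM.trans (le_sup_left.trans le_sup_left))))
      ?_ ?_
    · rw [hHJ]
      exact (map_mono le_normalizer_of_normal).trans (le_normalizer_map _)
    · intro A hA
      have hAp : IsPGroup p (A.subgroupOf H) :=
        (PGroup.isPGroup_of_isElementaryAbelian hA.1.ea).of_equiv (subgroupOfEquivOfLe hA.1.le).symm
      obtain ⟨Q, hQ⟩ := hAp.exists_le_sylow
      obtain ⟨h, hh⟩ := MulAction.exists_smul_eq ↥H Q (T'.mapSurjective (f := f.subgroupMap J) (f.subgroupMap_surjective J))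
      refine ⟨h, h.2, ?_⟩
      rintro _ ⟨a, ha, rfl⟩
      have h1 : h * ⟨a, hA.1.le ha⟩ * h⁻¹ ∈ ((h • Q : Sylow p ↥H) : Subgroup ↥H) := by
        rw [Sylow.coe_subgroup_smul, Core.conj_smul_eq_map]
        exact ⟨⟨a, hA.1.le ha⟩, hQ (mem_subgroupOf.2 ha), rfl⟩
      rw [hh, Sylow.coe_mapSurjective, hT'] at h1
      obtain ⟨t, ht, hte⟩ := h1
      exact ⟨t, ⟨mem_subgroupOf.1 ht, t.2⟩, congrArg Subtype.val hte⟩
    · haveI := hXc
      rw [hHJ, ← Coprime.map_inf_centralizer_eq (toModel V) le_normalizer_of_normal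
        (coprime_operator hq hXq hnd J) (Or.inl (Group.isSolvable_of_comm fun a b => hXc.is_comm.comm a b))]
      rintro _ ⟨_, ⟨⟨k, hk, rfl⟩, hkc⟩, rfl⟩
      exact ⟨k, mem_sup_right hkc, rfl⟩
  have hJM : J ≤ M := by
    rw [hH, Subgroup.map_le_map_iff, sup_eq_left.2 hker'] at hHM
    exact hHM
  refine eq_top_iff.2 ?_
  have hfr := Sylow.normalizer_sup_eq_top T'
  rw [hT', subgroupOf_map_subtype] at hfr
  rw [← hfr]
  refine sup_le (le_trans ?_ (le_sup_left.trans le_sup_left)) hJM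
  intro n hn
  obtain ⟨A, hA, hAS⟩ := Thompson.exists_maxEA_le_sylow S
  rw [Thompson.thompsonSubgroupOf_eq (p := p) (S : Subgroup K₀) ⟨A, hA, hAS⟩]
  refine mem_normalizer_fintype fun y hy => ?_
  have hmem := mem_map_of_mem (MulAut.conj n).toMonoidHom hy
  rw [sSup_eq_iSup, Subgroup.map_iSup] at hmem
  refine SetLike.le_def.1 (iSup_le fun B => ?_) hmem
  rw [Subgroup.map_iSup]
  refine iSup_le fun hB => le_sSup ⟨Thompson.map_mem_maxEA (MulAut.conj n) hB.1, ?_⟩
  rintro _ ⟨b, hb, rfl⟩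
  exact ((mem_normalizer_iff.1 hn b).1 ⟨hB.2 hb, le_sSup hB.1 hb⟩).1

/-- The fixed points involve `SL₂(p)` on a plane. -/
theorem plane_of_operator (j : K₀ →* G) (hj : Function.Injective j) (hjn : j.range.Normal)
    (X : Subgroup G) {q : ℕ} (hq : q.Prime) (hXq : ∀ x ∈ X, x ^ q = 1) (hXc : IsMulCommutative X)
    (hnd : ¬ q ∣ Nat.card K₀) (hsep : Cfsg.IsPSolvable p K₀) (hO : Cfsg.pPrimeCore p K₀ = ⊥)
    (hnf : ¬ Cfsg.IsThompsonFactorizable p K₀) :
    (p = 2 ∨ p = 3) ∧ ∃ W D : Subgroup G, W ≤ j.range ⊓ centralizer (X : Set G) ∧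
      D ≤ j.range ⊓ centralizer (X : Set G) ∧ Cfsg.IsElementaryAbelian p W ∧ Nat.card W = p ^ 2 ∧
      D ≤ normalizer (W : Set G) ∧ ∃ φ : ↥D →* Matrix.SpecialLinearGroup (Fin 2) (ZMod p),
        Function.Surjective φ ∧ φ.ker = (centralizer (W : Set G)).subgroupOf D := by
  obtain ⟨hVn, hV₀, -⟩ := Cfsg.Agent.S0601.result (p := p) (Core.centralizer_pCore_le_of_isPSolvable hsep hO)
  rw [Cfsg.Agent.S0608.result hO] at hnf
  set V₀ := ⨆ T : Sylow p K₀, Cfsg.omegaOne p ((T : Subgroup K₀) ⊓ centralizer ((T : Subgroup K₀) : Set K₀))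
    with hV₀def
  haveI := hVn
  haveI : (V₀.map j).Normal := map_normal_of_invariant hj hjn sylowOmega_invariant
  haveI : ((Cfsg.thompsonSubgroup p K₀).map j).Normal :=
    map_normal_of_invariant hj hjn fun e => Thompson.map_thompson_le e
  have hgenV : V₀ = ⨆ T : Sylow p K₀, V₀ ⊓ centralizer ((T : Subgroup K₀) : Set K₀) :=
    le_antisymm (iSup_le fun T => le_trans (le_inf (le_iSup (fun T : Sylow p K₀ => Cfsg.omegaOne p
      ((T : Subgroup K₀) ⊓ centralizer ((T : Subgroup K₀) : Set K₀))) T)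
        ((Cfsg.Agent.S0601.sylowOmega_le T).trans inf_le_right))
      (le_iSup (fun T : Sylow p K₀ => V₀ ⊓ centralizer ((T : Subgroup K₀) : Set K₀)) T))
      (iSup_le fun T => inf_le_left)
  obtain ⟨hker, hs, hgen⟩ := setup_operator j hj hsep V₀ hV₀ (Cfsg.Agent.S0600.result V₀ hV₀ hgenV)
  set V := V₀.map j with hVdef
  set J := Cfsg.thompsonSubgroup p K₀ with hJ
  set f := (toModel V).comp j with hfdef
  set H := J.map f with hH
  obtain ⟨A, hA, hp23, hq5⟩ := exists_block_operator rfl hker hs hgen hnf hq hnd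
  refine ⟨hp23, ?_⟩
  obtain ⟨-, ⟨e⟩, -⟩ := block_iso hs hA
  set R := X.map (toModel V) with hRdef
  have hR : ∀ y ∈ R, y ^ q = 1 := by
    rintro _ ⟨x, hx, rfl⟩
    rw [← map_pow, hXq x hx, map_one]
  have hHJ : H = (J.map j).map (toModel V) := by rw [hH, hfdef, ← Subgroup.map_map]
  obtain ⟨W₂, hW₂, hW₂c, hW₂n, φ, hφs, hφk⟩ := exists_fixed_plane hs hA hgen (R := R)
    (by rw [hHJ]; exact (map_mono le_normalizer_of_normal).trans (le_normalizer_map _))
    (map_le_normalizer_modV V X) hq hq5 hR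
  set W := (W₂.comap (SemidirectProduct.inl : ↥V →* Model V)).map V.subtype with hWdef
  set D := J.map j ⊓ centralizer (X : Set G) with hDdef
  have hDeq : D.map (toModel V) = H ⊓ centralizer (R : Set (Model V)) := by
    rw [hHJ, hDdef, Coprime.map_inf_centralizer_eq (toModel V) le_normalizer_of_normal
      (coprime_operator hq hXq hnd J) (Or.inl (Group.isSolvable_of_comm fun a b => hXc.is_comm.comm a b))]
  have hWV : W ≤ V := map_subtype_le _
  have hmemW : ∀ (v : ↥V), (v : G) ∈ W ↔ SemidirectProduct.inl v ∈ W₂ := fun v => by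
    rw [hWdef]
    exact ⟨fun ⟨u, hu, hue⟩ => (Subtype.ext hue : u = v) ▸ hu, fun h => ⟨v, h, rfl⟩⟩
  refine ⟨W, D, le_inf (hWV.trans (map_le_range _ _)) ?_, le_inf (inf_le_left.trans (map_le_range _ _)) inf_le_right,
    PGroup.isElementaryAbelian_of_le (Thompson.isEA_map j hV₀) hWV, ?_, ?_, ?_⟩
  · intro w hw
    obtain ⟨v, rfl⟩ : ∃ v : ↥V, (v : G) = w := ⟨⟨w, hWV hw⟩, rfl⟩
    refine mem_centralizer_iff.2 fun x hx => ?_
    have h1 := mem_centralizer_iff.1 (hW₂ ((hmemW v).1 hw)).2 _ (mem_map_of_mem (toModel V) hx)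
    rw [← mul_inv_eq_iff_eq_mul, toModel_conj] at h1
    have h2 := congrArg Subtype.val (SemidirectProduct.inl_injective h1)
    rw [MulAut.conjNormal_apply] at h2
    exact mul_inv_eq_iff_eq_mul.1 h2
  · rw [hWdef, card_map_of_injective V.subtype_injective, ← hW₂c]
    conv_rhs => rw [← map_comap_eq_self ((hW₂.trans inf_le_left) : W₂ ≤ _)]
    rw [card_map_of_injective SemidirectProduct.inl_injective]
  · intro d hd
    refine mem_normalizer_fintype fun w hw => ?_
    obtain ⟨v, rfl⟩ : ∃ v : ↥V, (v : G) = w := ⟨⟨w, hWV hw⟩, rfl⟩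
    have h1 := (mem_normalizer_iff.1 (hW₂n (hDeq.le (mem_map_of_mem (toModel V) hd))) _).1 ((hmemW v).1 hw)
    rw [toModel_conj] at h1
    have h2 := (hmemW _).2 h1
    rwa [MulAut.conjNormal_apply] at h2
  · let ψ : ↥D →* ↥(H ⊓ centralizer (R : Set (Model V))) :=
      ((toModel V).comp D.subtype).codRestrict _ fun d => hDeq.le (mem_map_of_mem (toModel V) d.2)
    have hψ : Function.Surjective ψ := by
      rintro ⟨y, hy⟩
      obtain ⟨d, hd, rfl⟩ := hDeq.ge hy
      exact ⟨⟨d, hd⟩, rfl⟩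
    refine ⟨e.toMonoidHom.comp (φ.comp ψ), e.surjective.comp (hφs.comp hψ), ?_⟩
    ext d
    rw [MonoidHom.mem_ker, MonoidHom.comp_apply, MonoidHom.comp_apply, MulEquiv.coe_toMonoidHom,
      e.map_eq_one_iff, ← MonoidHom.mem_ker, hφk, mem_subgroupOf, mem_subgroupOf]
    show toModel V d ∈ centralizer (W₂ : Set (Model V)) ↔ (d : G) ∈ centralizer (W : Set G)
    constructor
    · intro h
      refine mem_centralizer_iff.2 fun w hw => ?_
      obtain ⟨v, rfl⟩ : ∃ v : ↥V, (v : G) = w := ⟨⟨w, hWV hw⟩, rfl⟩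
      have h1 := mem_centralizer_iff.1 h _ ((hmemW v).1 hw)
      have h2 : toModel V d * SemidirectProduct.inl v * (toModel V d)⁻¹ = SemidirectProduct.inl v := by
        rw [← h1, mul_inv_cancel_right]
      rw [toModel_conj] at h2
      have h3 := congrArg Subtype.val (SemidirectProduct.inl_injective h2)
      rw [MulAut.conjNormal_apply] at h3
      exact (mul_inv_eq_iff_eq_mul.1 h3).symm
    · intro h
      refine mem_centralizer_iff.2 fun u hu => ?_
      obtain ⟨v, rfl⟩ := (hW₂ hu).1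
      refine (mul_inv_eq_iff_eq_mul.1 ?_).symm
      rw [toModel_conj]
      congr 1
      refine Subtype.ext ?_
      rw [MulAut.conjNormal_apply, ← mem_centralizer_iff.1 h _ ((hmemW v).2 hu), mul_inv_cancel_right]

end Cfsg.Lib.Local.FF
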