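import Cfsg.Agent.Lib.Linear.SLBasic
import Cfsg.Agent.Lib.FusionSys.PlaneAction

/-!
# A plane with two transvections

A group generated by two transvections of a plane of order `p ^ 2` with different centres is `SL₂(p)`.
-/

set_option autoImplicit false
set_option linter.style.haveILetI false

namespace Cfsg.Lib.Local.FF

open Subgroup Cfsg.Lib.FusionSys
open scoped MatrixGroups Pointwise Matrix

variable {G : Type*} [Group G] [Finite G] {p : ℕ} [hp : Fact p.Prime]

theorem exists_equiv_SL2 {W A B : Subgroup G} (e f a b : G) (α β : ℕ) (hW : zpowers e ⊔ zpowers f = W)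
    (hA : zpowers a = A) (hB : zpowers b = B) (he : e ^ p = 1) (hf : f ^ p = 1)
    (hdisj : zpowers e ⊓ zpowers f = ⊥) (he1 : e ≠ 1) (hf1 : f ≠ 1) (hef : e * f = f * e)
    (hae : a * e * a⁻¹ = e) (haf : a * f * a⁻¹ = e ^ α * f) (hα : ¬ p ∣ α)
    (hbf : b * f * b⁻¹ = f) (hbe : b * e * b⁻¹ = e * f ^ β) (hβ : ¬ p ∣ β)
    (hfaith : (A ⊔ B) ⊓ centralizer (W : Set G) = ⊥) :
    Nonempty (↥(A ⊔ B) ≃* SL(2, ZMod p)) := by
  classical
  haveI : NeZero p := ⟨hp.out.ne_zero⟩
  let θ : (Fin 2 → ZMod p) → G := fun x => e ^ (x 0).val * f ^ (x 1).val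
  have hval : ∀ {g : G}, g ^ p = 1 → ∀ i : ℕ, g ^ ((i : ZMod p)).val = g ^ i := fun hg i =>
    Plane.pow_eq_pow_of_modEq hg (by rw [ZMod.val_natCast]; exact Nat.mod_modEq i p)
  have hθnat : ∀ i j : ℕ, θ ![(i : ZMod p), (j : ZMod p)] = e ^ i * f ^ j := fun i j => by
    simp only [θ, Matrix.cons_val_zero, Matrix.cons_val_one]
    rw [hval he, hval hf]
  have hc : Commute e f := hef
  have hθadd : ∀ x y, θ (x + y) = θ x * θ y := by
    intro x y
    have h1 : ∀ {g : G}, g ^ p = 1 → ∀ u v : ZMod p, g ^ (u + v).val = g ^ u.val * g ^ v.val := fun hg u v => by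
      rw [← pow_add]
      exact Plane.pow_eq_pow_of_modEq hg (by rw [ZMod.val_add]; exact Nat.mod_modEq _ p)
    simp only [θ, Pi.add_apply, h1 he, h1 hf]
    rw [mul_assoc, ← mul_assoc (e ^ (y 0).val), (hc.pow_pow (y 0).val (x 1).val).eq]
    group
  have hθinj : Function.Injective θ := by
    intro x y hxy
    have h1 : (e ^ (y 0).val)⁻¹ * e ^ (x 0).val = f ^ (y 1).val * (f ^ (x 1).val)⁻¹ := by
      rw [eq_mul_inv_iff_mul_eq, mul_assoc, show e ^ (x 0).val * f ^ (x 1).val = _ from hxy,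
        inv_mul_cancel_left]
    have h2 : (e ^ (y 0).val)⁻¹ * e ^ (x 0).val = 1 := mem_bot.1 (hdisj.le
      ⟨(zpowers e).mul_mem ((zpowers e).inv_mem ((zpowers e).pow_mem (mem_zpowers e) _))
          ((zpowers e).pow_mem (mem_zpowers e) _), by
        rw [h1]
        exact (zpowers f).mul_mem ((zpowers f).pow_mem (mem_zpowers f) _)
          ((zpowers f).inv_mem ((zpowers f).pow_mem (mem_zpowers f) _))⟩)
    have h3 : e ^ (y 0).val = e ^ (x 0).val := inv_mul_eq_one.1 h2
    have h4 : f ^ (y 1).val = f ^ (x 1).val := by rw [← mul_inv_eq_one, ← h1, h2]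
    funext i
    fin_cases i
    · exact ZMod.val_injective p ((Plane.modEq_of_pow_eq he he1 h3.symm).eq_of_lt_of_lt (ZMod.val_lt _) (ZMod.val_lt _))
    · exact ZMod.val_injective p ((Plane.modEq_of_pow_eq hf hf1 h4.symm).eq_of_lt_of_lt (ZMod.val_lt _) (ZMod.val_lt _))
  have hθsurj : ∀ w ∈ W, ∃ x, θ x = w := by
    intro w hw
    rw [← hW] at hw
    obtain ⟨y, hy, z, hz, rfl⟩ : ∃ y ∈ zpowers e, ∃ z ∈ zpowers f, w = y * z := by
      have hn : zpowers f ≤ normalizer ((zpowers e : Subgroup G) : Set G) :=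
        le_trans (zpowers_le.2 (mem_centralizer_iff.2 (by
          rintro _ ⟨n, rfl⟩; exact (hc.zpow_left n).eq))) (centralizer_le_normalizer _)
      have h : w ∈ ((zpowers e : Set G) * (zpowers f : Set G)) := by
        rw [← Subgroup.coe_mul_of_right_le_normalizer_left _ _ hn]; exact hw
      obtain ⟨y, hy, z, hz, rfl⟩ := Set.mem_mul.1 h
      exact ⟨y, hy, z, hz, rfl⟩
    haveI : Finite G := inferInstance
    obtain ⟨i, rfl⟩ := mem_powers_iff_mem_zpowers.2 hy
    obtain ⟨j, rfl⟩ := mem_powers_iff_mem_zpowers.2 hz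
    exact ⟨_, hθnat i j⟩
  have hθmem : ∀ x, θ x ∈ W := fun x => hW.le (mul_mem_sup (pow_mem (mem_zpowers e) _) (pow_mem (mem_zpowers f) _))
  let R : G → SL(2, ZMod p) → Prop := fun l M => ∀ x, l * θ x * l⁻¹ = θ (M.1 *ᵥ x)
  have hRmul : ∀ {l l' M M'}, R l M → R l' M' → R (l * l') (M * M') := by
    intro l l' M M' h h' x
    rw [show l * l' * θ x * (l * l')⁻¹ = l * (l' * θ x * l'⁻¹) * l⁻¹ by group, h', h,
      Matrix.mulVec_mulVec]
    rfl
  have hRone : R 1 1 := fun x => by simp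
  have hRinv : ∀ {l M}, R l M → R l⁻¹ M⁻¹ := by
    intro l M h x
    have h1 := h ((M⁻¹ : SL(2, ZMod p)).1 *ᵥ x)
    rw [Matrix.mulVec_mulVec] at h1
    have h2 : M.1 * (M⁻¹ : SL(2, ZMod p)).1 = 1 := congrArg Subtype.val (mul_inv_cancel M)
    rw [h2, Matrix.one_mulVec] at h1
    rw [← h1]
    group
  have hgenR : ∀ (l : G) (c d : ℕ), l * e * l⁻¹ = e * f ^ d → l * f * l⁻¹ = e ^ c * f →
      (c : ZMod p) * d = 0 → ∃ M : SL(2, ZMod p), M.1 = !![1, (c : ZMod p); (d : ZMod p), 1] ∧ R l M := by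
    intro l c d h1 h2 hcd
    refine ⟨⟨!![1, (c : ZMod p); (d : ZMod p), 1], by simp [Matrix.det_fin_two, hcd]⟩, rfl, fun x => ?_⟩
    have key : ∀ i j : ℕ, l * (e ^ i * f ^ j) * l⁻¹ = e ^ (i + c * j) * f ^ (d * i + j) := by
      intro i j
      rw [← conj_mul, ← conj_pow, ← conj_pow, h1, h2, (hc.pow_right d).mul_pow, (hc.pow_left c).mul_pow,
        ← pow_mul, ← pow_mul, pow_add e, pow_add f, mul_assoc, ← mul_assoc (f ^ (d * i)),
        ← (hc.pow_pow (c * j) (d * i)).eq]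
      group
    have hx : x = ![(((x 0).val : ℕ) : ZMod p), (((x 1).val : ℕ) : ZMod p)] := by
      funext i; fin_cases i <;> simp
    rw [hx, hθnat, key]
    refine (hθnat _ _).symm.trans (congrArg θ ?_)
    funext i
    fin_cases i <;> simp [Matrix.mulVec, dotProduct, Fin.sum_univ_two]
  obtain ⟨Ma, hMa, hRa⟩ := hgenR a α 0 (by simpa using hae) haf (by simp)
  obtain ⟨Mb, hMb, hRb⟩ := hgenR b 0 β hbe (by simpa using hbf) (by simp)
  set L := A ⊔ B with hL
  have hexM : ∀ l ∈ L, ∃ M, R l M := by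
    intro l hl
    rw [hL, ← hA, ← hB, zpowers_eq_closure, zpowers_eq_closure, ← Subgroup.closure_union] at hl
    induction hl using closure_induction with
    | mem x hx =>
      rcases hx with hx | hx <;> rw [Set.mem_singleton_iff] at hx <;> subst hx
      exacts [⟨Ma, hRa⟩, ⟨Mb, hRb⟩]
    | one => exact ⟨1, hRone⟩
    | mul x y _ _ hx hy => exact ⟨_, hRmul hx.choose_spec hy.choose_spec⟩
    | inv x _ hx => exact ⟨_, hRinv hx.choose_spec⟩
  have hMuniq : ∀ {l M M'}, R l M → R l M' → M = M' := by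
    intro l M M' h h'
    refine Subtype.ext (Matrix.ext fun i j => ?_)
    have := congrFun (hθinj ((h (Pi.single j 1)).symm.trans (h' (Pi.single j 1)))) i
    simpa using this
  choose! ρ hρ using hexM
  let ψ : L →* SL(2, ZMod p) := MonoidHom.mk' (fun l => ρ l) fun l l' =>
    hMuniq (hρ _ (mul_mem l.2 l'.2)) (hRmul (hρ _ l.2) (hρ _ l'.2))
  have hinj : Function.Injective ψ := by
    refine (injective_iff_map_eq_one ψ).2 fun l hl => Subtype.ext (mem_bot.1 (hfaith.le ⟨l.2, ?_⟩))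
    refine mem_centralizer_iff.2 fun w hw => ?_
    obtain ⟨x, rfl⟩ := hθsurj w hw
    have h := hρ _ l.2 x
    rw [show ρ (l : G) = 1 from hl] at h
    simp only [Matrix.SpecialLinearGroup.coe_one, Matrix.one_mulVec] at h
    exact (mul_inv_eq_iff_eq_mul.1 h).symm
  have hsurj : ψ.range = ⊤ := by
    rw [eq_top_iff, ← Cfsg.Lib.Linear.closure_transvection_eq_top, closure_le]
    rintro _ ⟨i, j, hij, c, rfl⟩
    have haL : a ∈ L := (le_sup_left : A ≤ L) (hA ▸ mem_zpowers a)
    have hbL : b ∈ L := (le_sup_right : B ≤ L) (hB ▸ mem_zpowers b)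
    have hmemA : ∀ n : ℕ, ∃ M, M ∈ ψ.range ∧ M = Ma ^ n := fun n => ⟨_, ψ.range.pow_mem
      ⟨⟨a, haL⟩, hMuniq (hρ _ haL) hRa⟩ n, rfl⟩
    have hmemB : ∀ n : ℕ, Mb ^ n ∈ ψ.range := fun n => ψ.range.pow_mem
      ⟨⟨b, hbL⟩, hMuniq (hρ _ hbL) hRb⟩ n
    have hpa : ∀ n : ℕ, (Ma ^ n).1 = !![1, (n * α : ZMod p); 0, 1] := by
      intro n
      induction n with
      | zero => simp [Matrix.one_fin_two]
      | succ n ih =>
        rw [pow_succ, Matrix.SpecialLinearGroup.coe_mul, ih, hMa]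
        simp [Matrix.mul_fin_two]
        ring
    have hpb : ∀ n : ℕ, (Mb ^ n).1 = !![1, 0; (n * β : ZMod p), 1] := by
      intro n
      induction n with
      | zero => simp [Matrix.one_fin_two]
      | succ n ih =>
        rw [pow_succ, Matrix.SpecialLinearGroup.coe_mul, ih, hMb]
        simp [Matrix.mul_fin_two]
        ring
    have hα0 : (α : ZMod p) ≠ 0 := fun h => hα ((ZMod.natCast_eq_zero_iff α p).1 h)
    have hβ0 : (β : ZMod p) ≠ 0 := fun h => hβ ((ZMod.natCast_eq_zero_iff β p).1 h)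
    fin_cases i <;> fin_cases j
    · exact absurd rfl hij
    · obtain ⟨M, hM, rfl⟩ := hmemA ((c * (α : ZMod p)⁻¹).val)
      show _ ∈ ψ.range
      suffices he : Matrix.SpecialLinearGroup.transvection hij c = Ma ^ (c * (α : ZMod p)⁻¹).val from he ▸ hM
      refine Subtype.ext ?_
      rw [hpa, ZMod.natCast_zmod_val, inv_mul_cancel_right₀ hα0, Matrix.SpecialLinearGroup.transvection_coe]
      ext k m; fin_cases k <;> fin_cases m <;> simp [Matrix.transvection, Matrix.single, Matrix.one_apply]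
    · show _ ∈ ψ.range
      suffices he : Matrix.SpecialLinearGroup.transvection hij c = Mb ^ (c * (β : ZMod p)⁻¹).val from
        he ▸ hmemB _
      refine Subtype.ext ?_
      rw [hpb, ZMod.natCast_zmod_val, inv_mul_cancel_right₀ hβ0, Matrix.SpecialLinearGroup.transvection_coe]
      ext k m; fin_cases k <;> fin_cases m <;> simp [Matrix.transvection, Matrix.single, Matrix.one_apply]
    · exact absurd rfl hij
  exact ⟨MulEquiv.ofBijective ψ ⟨hinj, MonoidHom.range_eq_top.1 hsurj⟩⟩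

end Cfsg.Lib.Local.FF
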