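import Cfsg.Agent.Lib.Local.FF.Basic
import Cfsg.Agent.Lib.Local.FF.Plane
import Cfsg.Agent.Lib.Local.TimmesfeldReplacement

/-!
# Two offenders of order `p` congruent modulo the `p'`-core

They generate `SL₂(p)` acting on a plane, and all offenders congruent to a given one lie in that group.
-/

set_option autoImplicit false
set_option linter.style.haveILetI false

namespace Cfsg.Lib.Local.FF

open Subgroup
open scoped commutatorElement

variable {G : Type*} [Group G] [Finite G] {p : ℕ} [hp : Fact p.Prime] {V H A B : Subgroup G}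

/-- `U` is normalized by `X` if `[U,X] ≤ U`. -/
theorem le_normalizer_of_commutator_le {U X : Subgroup G} (h : ⁅U, X⁆ ≤ U) : X ≤ normalizer (U : Set G) := by
  intro x hx
  refine mem_normalizer_fintype fun u hu => ?_
  have h1 : ⁅u⁻¹, x⁆ ∈ U := h (commutator_mem_commutator (U.inv_mem hu) hx)
  have h2 := U.mul_mem hu h1
  rwa [commutatorElement_def, inv_inv, ← mul_assoc, ← mul_assoc, ← mul_assoc, mul_inv_cancel, one_mul] at h2

/-- `[U, A ⊔ B] ≤ W` from the two parts. -/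
theorem commutator_sup_le {U W A B : Subgroup G} (hA : A ≤ normalizer (W : Set G))
    (hB : B ≤ normalizer (W : Set G)) (h1 : ⁅U, A⁆ ≤ W) (h2 : ⁅U, B⁆ ≤ W) : ⁅U, A ⊔ B⁆ ≤ W := by
  refine commutator_le.2 fun u hu g hg => ?_
  suffices hgen : A ⊔ B ≤
      { carrier := {g : G | g ∈ normalizer (W : Set G) ∧ ∀ u ∈ U, ⁅u, g⁆ ∈ W}
        one_mem' := ⟨one_mem _, fun u _ => by simp⟩
        mul_mem' := fun {x y} hx hy => ⟨mul_mem hx.1 hy.1, fun u hu => by
          have e : ⁅u, x * y⁆ = ⁅u, x⁆ * (x * ⁅u, y⁆ * x⁻¹) := by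
            simp only [commutatorElement_def]; group
          rw [e]
          exact W.mul_mem (hx.2 u hu) ((mem_normalizer_iff.1 hx.1 _).1 (hy.2 u hu))⟩
        inv_mem' := fun {x} hx => ⟨inv_mem hx.1, fun u hu => by
          have e : ⁅u, x⁻¹⁆ = x⁻¹ * ⁅u, x⁆⁻¹ * x⁻¹⁻¹ := by
            simp only [commutatorElement_def]; group
          rw [e]
          exact (mem_normalizer_iff.1 (inv_mem hx.1) _).1 (W.inv_mem (hx.2 u hu))⟩ } from (hgen hg).2 u hu
  exact sup_le (fun a ha => ⟨hA ha, fun u hu => h1 (commutator_mem_commutator hu ha)⟩)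
    fun b hb => ⟨hB hb, fun u hu => h2 (commutator_mem_commutator hu hb)⟩

omit [Finite G] hp in
theorem conj_le_H (hAH : A ≤ H) {h : G} (hh : h ∈ H) : A.map (MulAut.conj h).toMonoidHom ≤ H := by
  rintro _ ⟨a, ha, rfl⟩
  exact H.mul_mem (H.mul_mem hh (hAH ha)) (H.inv_mem hh)

omit hp in
theorem map_conj_V (hs : Setup p V H) {h : G} (hh : h ∈ H) : V.map (MulAut.conj h).toMonoidHom = V :=
  Core.map_conj_eq_of_mem_normalizer (hs.hHV hh)

omit [Finite G] hp in
theorem map_conj_centralizer (X : Subgroup G) (h : G) :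
    (centralizer (X : Set G)).map (MulAut.conj h).toMonoidHom =
      centralizer ((X.map (MulAut.conj h).toMonoidHom : Subgroup G) : Set G) := by
  ext y
  constructor
  · rintro ⟨z, hz, rfl⟩
    refine mem_centralizer_iff.2 ?_
    rintro _ ⟨x, hx, rfl⟩
    rw [← map_mul, ← map_mul, mem_centralizer_iff.1 hz x hx]
  · intro hy
    refine ⟨h⁻¹ * y * h, mem_centralizer_iff.2 fun x hx => ?_, by simp [mul_assoc]⟩
    have h1 := mem_centralizer_iff.1 hy _ (mem_map_of_mem (MulAut.conj h).toMonoidHom hx)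
    simp only [MulEquiv.coe_toMonoidHom, MulAut.conj_apply] at h1
    calc x * (h⁻¹ * y * h) = h⁻¹ * (h * x * h⁻¹ * y) * h := by group
      _ = h⁻¹ * (y * (h * x * h⁻¹)) * h := by rw [h1]
      _ = h⁻¹ * y * h * x := by group

theorem IsOne.conj (hs : Setup p V H) (hA : IsOne p V H A) {h : G} (hh : h ∈ H) :
    IsOne p V H (A.map (MulAut.conj h).toMonoidHom) ∧
      ⁅V, A.map (MulAut.conj h).toMonoidHom⁆ = (⁅V, A⁆).map (MulAut.conj h).toMonoidHom := by
  refine ⟨⟨⟨conj_le_H hA.1.le hh, PGroup.isElementaryAbelian_map hA.1.ea _, ?_⟩, ?_⟩, ?_⟩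
  · rw [card_map_of_injective (MulAut.conj h).injective]
    have h2 : (V ⊓ centralizer (A : Set G)).map (MulAut.conj h).toMonoidHom =
        V ⊓ centralizer ((A.map (MulAut.conj h).toMonoidHom : Subgroup G) : Set G) := by
      rw [map_inf _ _ _ (MulAut.conj h).injective, map_conj_V hs hh, map_conj_centralizer]
    rw [← h2, card_map_of_injective (MulAut.conj h).injective]
    exact hA.1.card
  · rw [card_map_of_injective (MulAut.conj h).injective]
    exact hA.2
  · conv_lhs => rw [← map_conj_V hs hh]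
    rw [map_commutator]

theorem IsOne.ne_bot (hA : IsOne p V H A) : A ≠ ⊥ := fun h =>
  hp.out.one_lt.ne (by rw [← hA.2, h, card_bot])

theorem IsOne.inf_core (hA : IsOne p V H A) : A ⊓ core p H = ⊥ :=
  eq_bot_of_le_core (PGroup.isPGroup_of_isElementaryAbelian
    (PGroup.isElementaryAbelian_of_le hA.1.ea inf_le_left)) inf_le_right

theorem IsOne.eq_of_le (hA : IsOne p V H A) (hB : IsOne p V H B) (h : A ≤ B) : A = B :=
  eq_of_le_of_card_ge h (by rw [hA.2, hB.2])

/-- The congruence modulo the core is symmetric. -/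
theorem le_core_sup_symm (hA : IsOne p V H A) (hB : IsOne p V H B) (h : B ≤ core p H ⊔ A) :
    A ≤ core p H ⊔ B := by
  obtain ⟨b, hb, hb1⟩ := (Subgroup.ne_bot_iff_exists_ne_one.1 hB.ne_bot) |> fun ⟨b, hb⟩ =>
    (⟨b, b.2, fun h => hb (Subtype.ext h)⟩ : ∃ b, b ∈ B ∧ b ≠ 1)
  obtain ⟨q, hq, a, ha, rfl⟩ := Coprime.exists_mul_of_mem_sup (hA.1.le.trans le_normalizer_core) (h hb)
  have ha1 : a ≠ 1 := fun e => hb1 (mem_bot.1 (hB.inf_core.le ⟨hb, by rwa [e, mul_one]⟩))
  have haz : zpowers a = A := eq_of_le_of_card_ge (zpowers_le.2 ha)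
    (by rw [hA.2, Nat.card_zpowers, orderOf_eq_prime (hA.1.ea.2 a ha) ha1])
  rw [← haz, zpowers_le, show a = q⁻¹ * (q * a) by group]
  exact Subgroup.mul_mem_sup ((core p H).inv_mem hq) hb

theorem inf_centralizer_sup (A B : Subgroup G) :
    centralizer ((A ⊔ B : Subgroup G) : Set G) = centralizer (A : Set G) ⊓ centralizer (B : Set G) :=
  le_antisymm (le_inf (centralizer_le (le_sup_left : A ≤ A ⊔ B)) (centralizer_le (le_sup_right : B ≤ A ⊔ B)))
    (le_centralizer_iff.1 (sup_le (le_centralizer_iff.1 inf_le_left) (le_centralizer_iff.1 inf_le_right)))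

/-- If the centre of `B` is fixed by `A` then `A = B`. -/
theorem eq_of_fixed (hs : Setup p V H) (hA : IsOne p V H A) (hB : IsOne p V H B)
    (h : B ≤ core p H ⊔ A) (hT : ⁅V, B⁆ ≤ centralizer (A : Set G)) : A = B := by
  set Q := core p H with hQdef
  set L := A ⊔ B with hL
  set W := ⁅V, A⁆ ⊔ ⁅V, B⁆ with hW
  have hLH : L ≤ H := sup_le hA.1.le hB.1.le
  have hWV : W ≤ V := sup_le ((hA.line hs).2.trans inf_le_left) ((hB.line hs).2.trans inf_le_left)
  have hnW : ∀ X, ⁅V, X⁆ ≤ W → X ≤ normalizer (W : Set G) := fun X hX =>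
    le_normalizer_of_commutator_le ((commutator_mono hWV le_rfl).trans hX)
  have h1 : ⁅V, L⁆ ≤ W :=
    commutator_sup_le (hnW A le_sup_left) (hnW B le_sup_right) le_sup_left le_sup_right
  have hTc : ⁅V, B⁆ ≤ centralizer (L : Set G) := by
    rw [inf_centralizer_sup]
    exact le_inf hT ((hB.line hs).2.trans inf_le_right)
  have hLT : L ≤ normalizer ((⁅V, B⁆ : Subgroup G) : Set G) :=
    (le_centralizer_iff.1 hTc).trans (centralizer_le_normalizer _)
  have h2 : ⁅W, L⁆ ≤ ⁅V, B⁆ := by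
    refine commutator_sup_le (le_sup_left.trans hLT) (le_sup_right.trans hLT) ?_ (commutator_mono hWV le_rfl)
    rw [commutator_eq_bot_iff_le_centralizer.2 (sup_le ((hA.line hs).2.trans inf_le_right) hT)]
    exact bot_le
  set D := L ⊓ Q with hD
  have hDV : D ≤ normalizer (V : Set G) := (inf_le_left.trans hLH).trans hs.hHV
  have hDW : D ≤ normalizer (W : Set G) := inf_le_left.trans (sup_le (hnW A le_sup_left) (hnW B le_sup_right))
  have hcop : ∀ X ≤ V, (Nat.card D).Coprime (Nat.card X) := by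
    intro X hX
    obtain ⟨n, hn⟩ := IsPGroup.iff_card.1 ((isPGroup_of_hV hs).to_le hX)
    rw [hn]
    exact (Core.coprime_card_of_le inf_le_right core_coprime).pow_right n
  haveI := hs.hV.1
  have hsol : ∀ X ≤ V, Group.IsSolvable D ∨ Group.IsSolvable X := fun X hX => Or.inr (by
    haveI := ((isPGroup_of_hV hs).to_le hX).isNilpotent
    infer_instance)
  have hWD : ⁅W, D⁆ = ⊥ := Coprime.commutator_eq_bot_of_stabilizes hDW (hcop W hWV) (hsol W hWV)
    ((commutator_mono le_rfl inf_le_left).trans h2)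
    (commutator_eq_bot_iff_le_centralizer.2 (hTc.trans (centralizer_le inf_le_left)))
  have hVD : ⁅V, D⁆ = ⊥ := Coprime.commutator_eq_bot_of_stabilizes hDV (hcop V le_rfl) (hsol V le_rfl)
    ((commutator_mono le_rfl inf_le_left).trans h1) hWD
  have hDbot : D = ⊥ := hs.eq_bot_of_centralizes (inf_le_left.trans hLH)
    (le_centralizer_iff.1 (commutator_eq_bot_iff_le_centralizer.1 hVD))
  refine (hB.eq_of_le hA fun b hb => ?_).symm
  obtain ⟨q, hq, a, ha, rfl⟩ := Coprime.exists_mul_of_mem_sup (hA.1.le.trans le_normalizer_core) (h hb)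
  have : q = 1 := mem_bot.1 (hDbot.le ⟨by
    simpa using L.mul_mem (le_sup_right (a := A) hb) (L.inv_mem (le_sup_left (b := B) ha)), hq⟩)
  rwa [this, one_mul]

/-- The conclusions for two distinct congruent offenders. -/
structure PlaneData (p : ℕ) (V A B : Subgroup G) : Prop where
  left : ¬ ⁅V, B⁆ ≤ centralizer (A : Set G)
  right : ¬ ⁅V, A⁆ ≤ centralizer (B : Set G)
  disj : ⁅V, A⁆ ⊓ ⁅V, B⁆ = ⊥
  eq : ⁅V, A ⊔ B⁆ = ⁅V, A⁆ ⊔ ⁅V, B⁆
  card : Nat.card ↥⁅V, A ⊔ B⁆ = p ^ 2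
  norm : A ⊔ B ≤ normalizer ((⁅V, A ⊔ B⁆ : Subgroup G) : Set G)
  free : ⁅V, A ⊔ B⁆ ⊓ centralizer ((A ⊔ B : Subgroup G) : Set G) = ⊥
  span : ⁅V, A ⊔ B⁆ ⊔ (V ⊓ centralizer ((A ⊔ B : Subgroup G) : Set G)) = V
  faith : (A ⊔ B) ⊓ centralizer ((⁅V, A ⊔ B⁆ : Subgroup G) : Set G) = ⊥
  iso : Nonempty (↥(A ⊔ B) ≃* Matrix.SpecialLinearGroup (Fin 2) (ZMod p))

theorem inf_eq_bot_of_not_le {X Y : Subgroup G} (hX : Nat.card X = p) (h : ¬ X ≤ Y) : X ⊓ Y = ⊥ := by
  rcases (Nat.dvd_prime hp.out).1 (hX ▸ card_dvd_of_le (inf_le_left : X ⊓ Y ≤ X)) with h1 | h1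
  · exact card_eq_one.1 h1
  · exact absurd ((eq_of_le_of_card_ge inf_le_left (by rw [h1, hX])).ge.trans inf_le_right) h

theorem planeData (hs : Setup p V H) (hA : IsOne p V H A) (hB : IsOne p V H B)
    (h : B ≤ core p H ⊔ A) (hne : A ≠ B) : PlaneData p V A B := by
  have hl : ¬ ⁅V, B⁆ ≤ centralizer (A : Set G) := fun h' => hne (eq_of_fixed hs hA hB h h')
  have hr : ¬ ⁅V, A⁆ ≤ centralizer (B : Set G) := fun h' =>
    hne (eq_of_fixed hs hB hA (le_core_sup_symm hA hB h) h').symm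
  obtain ⟨hcA, hTA⟩ := hA.line hs
  obtain ⟨hcB, hTB⟩ := hB.line hs
  set TA := ⁅V, A⁆ with hTAdef
  set TB := ⁅V, B⁆ with hTBdef
  set W := TA ⊔ TB with hW
  have hWV : W ≤ V := sup_le (hTA.trans inf_le_left) (hTB.trans inf_le_left)
  have hnW : ∀ X, ⁅V, X⁆ ≤ W → X ≤ normalizer (W : Set G) := fun X hX =>
    le_normalizer_of_commutator_le ((commutator_mono hWV le_rfl).trans hX)
  have heq : ⁅V, A ⊔ B⁆ = W := le_antisymm
    (commutator_sup_le (hnW A le_sup_left) (hnW B le_sup_right) le_sup_left le_sup_right)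
    (sup_le (commutator_mono le_rfl le_sup_left) (commutator_mono le_rfl le_sup_right))
  have hdisj : TA ⊓ TB = ⊥ := inf_eq_bot_of_not_le hcA fun hle => hr (hle.trans (hTB.trans inf_le_right))
  have hnn : TB ≤ normalizer (TA : Set G) := fun y hy => centralizer_le_normalizer _
    (mem_centralizer_iff.2 fun x hx => (Thompson.isEA_commute hs.hV (hTA.trans inf_le_left hx)
      (hTB.trans inf_le_left hy)).eq)
  have hcard : Nat.card W = p ^ 2 := by
    rw [hW, Coprime.card_sup_of_disjoint hnn (disjoint_iff.2 hdisj), hcA, hcB, sq]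
  set C := V ⊓ centralizer ((A ⊔ B : Subgroup G) : Set G) with hC
  have hfree : W ⊓ centralizer ((A ⊔ B : Subgroup G) : Set G) = ⊥ := by
    rw [inf_centralizer_sup, eq_bot_iff]
    rintro w ⟨hw, hwA, hwB⟩
    obtain ⟨s, hs', t, ht, rfl⟩ := Coprime.exists_mul_of_mem_sup hnn hw
    have ht1 : t = 1 := mem_bot.1 ((inf_eq_bot_of_not_le hcB hl).le ⟨ht, by
      simpa using (centralizer (A : Set G)).mul_mem ((centralizer (A : Set G)).inv_mem ((hTA hs').2)) hwA⟩)
    rw [ht1, mul_one] at hwB ⊢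
    exact (inf_eq_bot_of_not_le hcA hr).le ⟨hs', hwB⟩
  have hCC : C = (V ⊓ centralizer (A : Set G)) ⊓ (V ⊓ centralizer (B : Set G)) := by
    rw [hC, inf_centralizer_sup, inf_inf_distrib_left]
  have hWC : W ⊔ C = V := by
    refine eq_of_le_of_card_ge (sup_le hWV inf_le_left) ?_
    have hn : C ≤ normalizer (W : Set G) := fun y hy => centralizer_le_normalizer _
      (mem_centralizer_iff.2 fun x hx => (Thompson.isEA_commute hs.hV (hWV hx) hy.1).eq)
    rw [Coprime.card_sup_of_disjoint hn (disjoint_iff.2 (le_bot_iff.1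
      ((inf_le_inf_left W (inf_le_right : C ≤ _)).trans hfree.le))), hcard, hCC]
    have h1 := Timmesfeld.card_mul_card_le (V ⊓ centralizer (A : Set G)) (V ⊓ centralizer (B : Set G))
    have h2 := Subgroup.card_le_of_le (sup_le (inf_le_left : V ⊓ centralizer (A : Set G) ≤ V)
      (inf_le_left : V ⊓ centralizer (B : Set G) ≤ V))
    have h3 := hA.fixed_card
    have h4 := hB.fixed_card
    refine Nat.le_of_mul_le_mul_left ?_ (Nat.card_pos (α := V))
    calc Nat.card V * Nat.card V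
        = p ^ 2 * (Nat.card (V ⊓ centralizer (A : Set G) : Subgroup G) *
            Nat.card (V ⊓ centralizer (B : Set G) : Subgroup G)) := by
          nth_rewrite 1 [h3]; rw [h4]; ring
      _ ≤ p ^ 2 * (Nat.card ((V ⊓ centralizer (A : Set G)) ⊓ (V ⊓ centralizer (B : Set G)) : Subgroup G) *
            Nat.card V) := Nat.mul_le_mul_left _ (h1.trans (Nat.mul_le_mul_left _ h2))
      _ = _ := by ring
  have hfaith : (A ⊔ B) ⊓ centralizer (W : Set G) = ⊥ := by
    refine hs.eq_bot_of_centralizes (inf_le_left.trans (sup_le hA.1.le hB.1.le)) ?_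
    rw [le_centralizer_iff, ← hWC]
    exact sup_le (le_centralizer_iff.1 inf_le_right)
      (inf_le_right.trans (centralizer_le (inf_le_left : (A ⊔ B) ⊓ centralizer (W : Set G) ≤ A ⊔ B)))
  refine ⟨hl, hr, hdisj, heq, heq ▸ hcard, heq ▸ sup_le (hnW A le_sup_left) (hnW B le_sup_right),
    heq ▸ hfree, heq ▸ hWC, heq ▸ hfaith, ?_⟩
  -- generators and coordinates
  have gen : ∀ {X : Subgroup G}, Nat.card X = p → Cfsg.IsElementaryAbelian p X →
      ∃ x, zpowers x = X ∧ x ^ p = 1 ∧ x ≠ 1 := by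
    intro X hX hea
    obtain ⟨⟨x, hx⟩, hx'⟩ := ne_bot_iff_exists_ne_one.1
      (fun h => hp.out.one_lt.ne (by rw [← hX, h, card_bot]) : X ≠ ⊥)
    have hx1 : x ≠ 1 := fun h => hx' (Subtype.ext h)
    exact ⟨x, eq_of_le_of_card_ge (zpowers_le.2 hx)
      (by rw [hX, Nat.card_zpowers, orderOf_eq_prime (hea.2 x hx) hx1]), hea.2 x hx, hx1⟩
  obtain ⟨e, he, hep, he1⟩ := gen hcA (PGroup.isElementaryAbelian_of_le hs.hV (hTA.trans inf_le_left))
  obtain ⟨f, hf, hfp, hf1⟩ := gen hcB (PGroup.isElementaryAbelian_of_le hs.hV (hTB.trans inf_le_left))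
  obtain ⟨a, ha, -, -⟩ := gen hA.2 hA.1.ea
  obtain ⟨b, hb, -, -⟩ := gen hB.2 hB.1.ea
  have heTA : e ∈ TA := he ▸ mem_zpowers e
  have hfTB : f ∈ TB := hf ▸ mem_zpowers f
  have haA : a ∈ A := ha ▸ mem_zpowers a
  have hbB : b ∈ B := hb ▸ mem_zpowers b
  have hfix : ∀ {x y : G}, x * y = y * x → x * y * x⁻¹ = y := fun {x y} h => by
    rw [h, mul_inv_cancel_right]
  have hmove : ∀ {X : Subgroup G} {x s t : G}, zpowers x = X → zpowers s = ⁅V, X⁆ → t ∈ V → s ^ p = 1 →
      ¬ zpowers t ≤ centralizer (X : Set G) → ∃ i : ℕ, x * t * x⁻¹ = s ^ i * t ∧ ¬ p ∣ i := by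
    intro X x s t hx hs' ht hsp hnc
    have h1 : (x * t * x⁻¹) * t⁻¹ ∈ ⁅V, X⁆ := by
      rw [commutator_comm]
      exact commutator_mem_commutator (hx ▸ mem_zpowers x) ht
    rw [← hs'] at h1
    obtain ⟨i, hi⟩ := mem_powers_iff_mem_zpowers.2 h1
    change s ^ i = _ at hi
    refine ⟨i, by rw [hi, inv_mul_cancel_right], ?_⟩
    rintro ⟨j, rfl⟩
    rw [pow_mul, hsp, one_pow] at hi
    apply hnc
    rw [zpowers_le, ← hx]
    refine mem_centralizer_iff.2 ?_
    rintro _ ⟨n, rfl⟩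
    exact (Commute.zpow_left (show Commute x t from (mul_inv_eq_iff_eq_mul.1 (mul_inv_eq_one.1 hi.symm))) n).eq
  obtain ⟨α, hα, hα'⟩ := hmove ha he (hTB.trans inf_le_left hfTB) hep (hf ▸ hl)
  obtain ⟨β, hβ, hβ'⟩ := hmove hb hf (hTA.trans inf_le_left heTA) hfp (he ▸ hr)
  have hce : e * f = f * e :=
    (Thompson.isEA_commute hs.hV (hTA.trans inf_le_left heTA) (hTB.trans inf_le_left hfTB)).eq
  refine exists_equiv_SL2 e f a b α β (W := W) (by rw [he, hf]) ha hb hep hfp (by rw [he, hf]; exact hdisj)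
    he1 hf1 hce (hfix (mem_centralizer_iff.1 (hTA heTA).2 a haA)) hα hα'
    (hfix (mem_centralizer_iff.1 (hTB hfTB).2 b hbB)) (by rw [hβ]; exact (Commute.pow_right hce β).eq.symm)
    hβ' hfaith

/-- Every nonidentity point of the plane is in the centre of a conjugate offender in `A ⊔ B`. -/
theorem exists_centre (hs : Setup p V H) (hA : IsOne p V H A) (hB : IsOne p V H B)
    (h : B ≤ core p H ⊔ A) (hne : A ≠ B) {w : G} (hw : w ∈ ⁅V, A ⊔ B⁆) :
    ∃ D, IsOne p V H D ∧ D ≤ A ⊔ B ∧ w ∈ ⁅V, D⁆ := by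
  have hd := planeData hs hA hB h hne
  obtain ⟨hcA, hTA⟩ := hA.line hs
  obtain ⟨hcB, hTB⟩ := hB.line hs
  rw [hd.eq] at hw
  have hnn : ⁅V, B⁆ ≤ normalizer ((⁅V, A⁆ : Subgroup G) : Set G) := fun y hy => centralizer_le_normalizer _
    (mem_centralizer_iff.2 fun x hx => (Thompson.isEA_commute hs.hV (hTA.trans inf_le_left hx)
      (hTB.trans inf_le_left hy)).eq)
  obtain ⟨s, hsA, t, htB, rfl⟩ := Coprime.exists_mul_of_mem_sup hnn hw
  by_cases ht : t = 1
  · exact ⟨A, hA, le_sup_left, by rwa [ht, mul_one]⟩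
  -- conjugate the centre of `B` to the fixed point
  let g : A → ↥⁅V, A⁆ := fun x => ⟨⁅(x : G), t⁆, by
    rw [commutator_comm]; exact commutator_mem_commutator x.2 (hTB.trans inf_le_left htB)⟩
  have hginj : Function.Injective g := by
    intro x y hxy
    have h1 : (x : G) * t * (x : G)⁻¹ = (y : G) * t * (y : G)⁻¹ := by
      have := congrArg Subtype.val hxy
      simp only [g, commutatorElement_def] at this
      exact mul_right_cancel this
    by_contra hxy'
    set z := (y : G)⁻¹ * x with hz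
    have hz1 : z ≠ 1 := fun e => hxy' (Subtype.ext (inv_mul_eq_one.1 e).symm)
    have hzA : z ∈ A := A.mul_mem (A.inv_mem y.2) x.2
    have hzt : z * t = t * z := by
      have : z * t * z⁻¹ = t := by
        calc z * t * z⁻¹ = (y : G)⁻¹ * ((x : G) * t * (x : G)⁻¹) * y := by rw [hz]; group
          _ = t := by rw [h1]; group
      exact mul_inv_eq_iff_eq_mul.1 this
    refine hd.left ?_
    have hzz : zpowers z = A := eq_of_le_of_card_ge (zpowers_le.2 hzA)
      (by rw [hA.2, Nat.card_zpowers, orderOf_eq_prime (hA.1.ea.2 z hzA) hz1])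
    by_contra hcon
    exact ht (mem_bot.1 ((inf_eq_bot_of_not_le hcB hcon).le ⟨htB, by
      rw [← hzz]
      refine mem_centralizer_iff.2 ?_
      rintro _ ⟨n, rfl⟩
      exact (Commute.zpow_left (hzt : Commute z t) n).eq⟩))
  obtain ⟨x, hx⟩ := (Nat.bijective_iff_injective_and_card g).2 ⟨hginj, by rw [hA.2, hcA]⟩ |>.2 ⟨s, hsA⟩
  have hxw : (x : G) * t * (x : G)⁻¹ = s * t := by
    have : ⁅(x : G), t⁆ = s := congrArg Subtype.val hx
    rw [← this, commutatorElement_def, inv_mul_cancel_right]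
  obtain ⟨hB'1, hB'T⟩ := hB.conj hs (hA.1.le x.2)
  refine ⟨B.map (MulAut.conj (x : G)).toMonoidHom, hB'1, ?_, hB'T ▸ ⟨t, htB, hxw⟩⟩
  rintro _ ⟨b, hb, rfl⟩
  exact mul_mem (mul_mem (mem_sup_left x.2) (mem_sup_right hb)) (inv_mem (mem_sup_left x.2))

/-- All offenders congruent to `A` lie in `A ⊔ B`. -/
theorem le_sup_of_congr (hs : Setup p V H) (hA : IsOne p V H A) (hB : IsOne p V H B)
    (h : B ≤ core p H ⊔ A) (hne : A ≠ B) {D : Subgroup G} (hD : IsOne p V H D)
    (hDA : D ≤ core p H ⊔ A) : D ≤ A ⊔ B := by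
  have hd := planeData hs hA hB h hne
  obtain ⟨hcA, hTA⟩ := hA.line hs
  obtain ⟨hcB, hTB⟩ := hB.line hs
  have hWV : ⁅V, A ⊔ B⁆ ≤ V := Coprime.commutator_le_of_le_normalizer
    ((sup_le hA.1.le hB.1.le).trans hs.hHV)
  obtain ⟨⟨w, hw⟩, hw1⟩ : ∃ w : ↥(⁅V, A ⊔ B⁆ ⊓ (V ⊓ centralizer (D : Set G))), w ≠ 1 := by
    refine Subgroup.ne_bot_iff_exists_ne_one.1 fun hbot => ?_
    have h1 := Timmesfeld.card_mul_card_le ⁅V, A ⊔ B⁆ (V ⊓ centralizer (D : Set G))
    rw [hbot, card_bot, one_mul, hd.card] at h1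
    have h2 := h1.trans (Subgroup.card_le_of_le (sup_le hWV inf_le_left))
    rw [hD.fixed_card, sq, mul_assoc] at h2
    have h3 := Nat.le_of_mul_le_mul_left h2 hp.out.pos
    have h4 : 2 * Nat.card (V ⊓ centralizer (D : Set G) : Subgroup G) ≤
        p * Nat.card (V ⊓ centralizer (D : Set G) : Subgroup G) := Nat.mul_le_mul_right _ hp.out.two_le
    have := Nat.card_pos (α := (V ⊓ centralizer (D : Set G) : Subgroup G))
    omega
  have hwne : w ≠ 1 := fun h => hw1 (Subtype.ext h)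
  obtain ⟨hwW, -, hwD⟩ := hw
  rw [hd.eq] at hwW
  obtain ⟨D', hD'1, hD'L, hwT⟩ := exists_centre hs hA hB h hne (hd.eq.symm ▸ hwW : w ∈ ⁅V, A ⊔ B⁆)
  have hAB' : A ⊔ B ≤ core p H ⊔ A := sup_le le_sup_right h
  have hfix : ⁅V, D'⁆ ≤ centralizer (D : Set G) := by
    by_contra hcon
    exact hwne (mem_bot.1 ((inf_eq_bot_of_not_le (hD'1.line hs).1 hcon).le ⟨hwT, hwD⟩))
  have hDD' : D ≤ core p H ⊔ D' :=
    hDA.trans (sup_le le_sup_left (le_core_sup_symm hA hD'1 (hD'L.trans hAB')))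
  exact (eq_of_fixed hs hD hD'1 (le_core_sup_symm hD'1 hD hDD') hfix).le.trans hD'L

end Cfsg.Lib.Local.FF
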