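import Cfsg.Agent.Lib.Local.FF.AbelianOffender
import Cfsg.Agent.Lib.Local.FF.Model
import Cfsg.Agent.Lib.Local.Sylow
import Cfsg.Agent.Lib.Local.GlaubermanZJ
import Cfsg.Agent.Lib.Local.Baumann.Moved
import Cfsg.Agent.Lib.Core.Layer
import Cfsg.Agent.Lib.Linear.PSLSmall
import Cfsg.Agent.S0617
import Mathlib.GroupTheory.NoncommPiCoprod

/-!
# Solvable groups with `F(X) = O₂(X)`: the factorization by `C`, `⟨J(T)^X⟩` and `N(J(T))`
-/

set_option autoImplicit false
set_option linter.style.haveILetI false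

namespace Cfsg.Lib.Local.FF

open Subgroup Cfsg.Lib Cfsg.Lib.Local.GlaubermanZJ
open scoped commutatorElement

universe u

variable {X : Type u} [Group X] [Finite X]

/-- The image of the two-part of a normal subgroup is trivial modulo `C`, when the centralizer of
`Z` contains `T` and `C` is its core. -/
theorem le_core_of_two_mod (T : Sylow 2 X) {Z : Subgroup X}
    (hTZ : (T : Subgroup X) ≤ centralizer (Z : Set X)) (N : Subgroup X) [hN : N.Normal]
    (h : ∀ x ∈ N, ∃ k, x ^ 2 ^ k ∈ (centralizer (Z : Set X)).normalCore) :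
    N ≤ (centralizer (Z : Set X)).normalCore := by
  haveI : Fact (Nat.Prime 2) := ⟨Nat.prime_two⟩
  set C := (centralizer (Z : Set X)).normalCore with hC
  set π := QuotientGroup.mk' C with hπ
  have hπs : Function.Surjective π := QuotientGroup.mk'_surjective _
  haveI : (N.map π).Normal := hN.map π hπs
  have hp : IsPGroup 2 (N.map π) := by
    rintro ⟨_, x, hx, rfl⟩
    obtain ⟨k, hk⟩ := h x hx
    exact ⟨k, Subtype.ext (by
      show π x ^ 2 ^ k = 1
      rw [← map_pow]
      exact (QuotientGroup.eq_one_iff _).2 hk)⟩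
  have hle := (Core.le_pCore hp).trans (Core.pCore_le_sylow (T.mapSurjective hπs))
  rw [Sylow.coe_mapSurjective, map_le_iff_le_comap, comap_map_eq, QuotientGroup.ker_mk'] at hle
  refine Subgroup.normal_le_normalCore.2 (hle.trans (sup_le hTZ (Subgroup.normalCore_le _)))

/-- The abelian Thompson subgroup and the normalizer of a Sylow subgroup of a normal subgroup. -/
theorem normalizer_inf_le_normalizer_thompsonA (P M : Subgroup X) (hJM : thompsonSubgroupAOf P ≤ M) :
    normalizer ((P ⊓ M : Subgroup X) : Set X) ≤ normalizer (thompsonSubgroupAOf P : Set X) := by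
  intro n hn
  have key : ∀ m ∈ normalizer ((P ⊓ M : Subgroup X) : Set X), ∀ x ∈ thompsonSubgroupAOf P,
      m * x * m⁻¹ ∈ thompsonSubgroupAOf P := by
    intro m hm x hx
    suffices h : thompsonSubgroupAOf P ≤ (thompsonSubgroupAOf P).comap (MulAut.conj m).toMonoidHom from h hx
    conv_lhs => rw [thompsonSubgroupAOf_eq]
    refine sSup_le fun A hA => ?_
    rw [← map_le_iff_le_comap, thompsonSubgroupAOf_eq]
    have hAM : A ≤ P ⊓ M :=
      le_inf hA.1 ((le_sSup hA).trans ((thompsonSubgroupAOf_eq P).ge.trans hJM))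
    refine le_sSup ⟨?_, ?_, fun D hD hDc => ?_⟩
    · rintro _ ⟨a, ha, rfl⟩
      exact ((mem_normalizer_iff.1 hm a).1 (hAM ha)).1
    · haveI := hA.2.1
      infer_instance
    · rw [card_map_of_injective (MulAut.conj m).injective]
      exact hA.2.2 D hD hDc
  refine mem_normalizer_fintype fun x hx => key n hn x hx

theorem main [Group.IsSolvable X] (hF : Cfsg.fittingSubgroup X = Cfsg.pCore 2 X) (T : Sylow 2 X) :
    ((centralizer (((T : Subgroup X) ⊓ centralizer ((T : Subgroup X) : Set X) : Subgroup X) : Set X)).normalCore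
        ⊔ normalClosure (thompsonSubgroupAOf (T : Subgroup X) : Set X)
        ⊔ normalizer (thompsonSubgroupAOf (T : Subgroup X) : Set X) = ⊤) ∧
    (normalClosure (thompsonSubgroupAOf (T : Subgroup X) : Set X)
        ≤ (centralizer (((T : Subgroup X) ⊓ centralizer ((T : Subgroup X) : Set X) : Subgroup X) : Set X)).normalCore
      ∨ ∃ n : ℕ, 1 ≤ n ∧
        Nonempty (↥(normalClosure (thompsonSubgroupAOf (T : Subgroup X) : Set X)) ⧸
            ((centralizer (((T : Subgroup X) ⊓ centralizer ((T : Subgroup X) : Set X) : Subgroup X) : Set X)).normalCore).subgroupOf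
              (normalClosure (thompsonSubgroupAOf (T : Subgroup X) : Set X))
          ≃* (Fin n → Equiv.Perm (Fin 3)))) := by
  classical
  haveI : Fact (Nat.Prime 2) := ⟨Nat.prime_two⟩
  set Z : Subgroup X := (T : Subgroup X) ⊓ centralizer ((T : Subgroup X) : Set X) with hZ
  set C := (centralizer (Z : Set X)).normalCore with hC
  set J := thompsonSubgroupAOf (T : Subgroup X) with hJ
  set Y := normalClosure (J : Set X) with hY
  have hJT : J ≤ T := map_subtype_le _
  refine ⟨?_, ?_⟩
  · set M := C ⊔ Y with hM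
    haveI : M.Normal := inferInstance
    have h1 : normalizer (((T : Subgroup X) ⊓ M : Subgroup X) : Set X) ≤ normalizer (J : Set X) :=
      normalizer_inf_le_normalizer_thompsonA _ M
        ((show J ≤ Y from Subgroup.le_normalClosure).trans le_sup_right)
    obtain ⟨T₁, hT₁⟩ := Cfsg.Lib.Local.exists_sylow_inf T M
    have h2 := Sylow.normalizer_sup_eq_top T₁
    have hmap : ((T₁ : Subgroup M).map M.subtype) = (T : Subgroup X) ⊓ M := by
      rw [hT₁, subgroupOf_map_subtype]
    rw [hmap] at h2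
    exact top_le_iff.1 (h2.ge.trans (sup_le (h1.trans le_sup_right) le_sup_left))
  -- the module
  set Q := Cfsg.pCore 2 X with hQ
  have hQT : Q ≤ T := Core.pCore_le_sylow T
  have hTZ : (T : Subgroup X) ≤ centralizer (Z : Set X) := le_centralizer_iff.1 inf_le_right
  have hCQ : centralizer (Q : Set X) ≤ Q := by
    have h := Core.centralizer_fitting_le_of_isSolvable (G := X)
    rwa [hF] at h
  have hZQ : Z ≤ Q ⊓ centralizer (Q : Set X) :=
    le_inf ((inf_le_right.trans (centralizer_le hQT)).trans hCQ) (inf_le_right.trans (centralizer_le hQT))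
  haveI : (centralizer (Q : Set X)).Normal := inferInstance
  set V := normalClosure (Z : Set X) with hV
  have hVQ : V ≤ Q ⊓ centralizer (Q : Set X) := normalClosure_le_normal hZQ
  have hVab : ∀ a ∈ V, ∀ b ∈ V, a * b = b * a := fun a ha b hb =>
    mem_centralizer_iff.1 (hVQ hb).2 a (hVQ ha).1
  have hVp : IsPGroup 2 V := (Core.pCore_isPGroup 2 X).to_le (hVQ.trans inf_le_left)
  let Ω : Subgroup X :=
    { carrier := {v | v ∈ V ∧ v ^ 2 = 1}
      one_mem' := ⟨one_mem V, one_pow 2⟩
      mul_mem' := fun {a b} ha hb => ⟨mul_mem ha.1 hb.1, by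
        rw [(show Commute a b from hVab a ha.1 b hb.1).mul_pow, ha.2, hb.2, one_mul]⟩
      inv_mem' := fun {a} ha => ⟨inv_mem ha.1, by rw [inv_pow, ha.2, inv_one]⟩ }
  haveI hΩn : Ω.Normal := ⟨fun v hv g => ⟨(inferInstance : V.Normal).conj_mem v hv.1 g, by
    rw [conj_pow, hv.2, mul_one, mul_inv_cancel]⟩⟩
  have hΩea : Cfsg.IsElementaryAbelian 2 Ω :=
    ⟨⟨⟨fun a b => Subtype.ext (hVab a a.2.1 b b.2.1)⟩⟩, fun a ha => ha.2⟩
  have hCV : C ≤ centralizer (V : Set X) := by
    haveI : (centralizer (C : Set X)).Normal := inferInstance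
    rw [le_centralizer_iff]
    exact normalClosure_le_normal (le_centralizer_iff.1 (Subgroup.normalCore_le _))
  have hCΩ : centralizer (Ω : Set X) = C := by
    refine le_antisymm (le_core_of_two_mod T hTZ _ fun x hx => ?_)
      (hCV.trans (centralizer_le fun v (hv : v ∈ Ω) => hv.1))
    obtain ⟨k, n, hn, hxn⟩ := Nat.exists_eq_two_pow_mul_odd (orderOf_pos x).ne'
    refine ⟨k, Subgroup.normal_le_normalCore.2 ((centralizer_le (Subgroup.le_normalClosure :
      Z ≤ V))) ?_⟩
    refine mem_centralizer_iff.2 fun v hv => ?_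
    have hodd : (orderOf (x ^ 2 ^ k)).Coprime 2 := by
      rw [Nat.coprime_two_right]
      refine hn.of_dvd_nat (orderOf_dvd_of_pow_eq_one ?_)
      rw [← pow_mul, ← hxn, pow_orderOf_eq_one]
    have h := Baumann.fix_of_fix_omega hVp hVab hodd
      (by rw [normalizer_eq_top]; exact mem_top _) (fun w hw hw2 => by
        rw [← mem_centralizer_iff.1 (pow_mem hx (2 ^ k)) w ⟨hw, hw2⟩, mul_inv_cancel_right]) v hv
    exact (mul_inv_eq_iff_eq_mul.1 h).symm
  -- no two-core
  have hO : Cfsg.pCore 2 (X ⧸ centralizer (Ω : Set X)) = ⊥ := by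
    set P := Cfsg.pCore 2 (X ⧸ centralizer (Ω : Set X)) with hP
    set N := P.comap (QuotientGroup.mk' (centralizer (Ω : Set X))) with hN
    haveI : N.Normal := inferInstance
    have hle : N ≤ centralizer (Ω : Set X) := by
      rw [hCΩ]
      refine le_core_of_two_mod T hTZ N fun x hx => ?_
      obtain ⟨k, hk⟩ := Core.pCore_isPGroup 2 _ ⟨_, hx⟩
      refine ⟨k, ?_⟩
      rw [← hC, ← hCΩ, ← QuotientGroup.eq_one_iff]
      exact congrArg Subtype.val hk
    rw [eq_bot_iff]
    intro q hq
    obtain ⟨x, rfl⟩ := QuotientGroup.mk'_surjective _ q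
    rw [mem_bot]
    exact (QuotientGroup.eq_one_iff _).2 (hle hq)
  set f := toModel Ω with hf
  set H := Y.map f with hH
  have hs : Setup 2 (modV Ω) H := setup_model Ω Core.isPSolvable_of_isSolvable hΩea hO Y
  -- the offenders
  have hbest : ∀ A, IsMaxAbIn (T : Subgroup X) A → ∀ n : X,
      Cfsg.IsBestOffenderOn 2 (modV Ω) ((A.map (MulAut.conj n).toMonoidHom).map f) ∧
      (A.map (MulAut.conj n).toMonoidHom).map f ≤ H := by
    intro A hA n
    set B := A.map (MulAut.conj n).toMonoidHom with hB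
    have hBY : B ≤ Y := by
      rintro _ ⟨a, ha, rfl⟩
      refine (normalClosure_normal (s := (J : Set X))).conj_mem a (subset_normalClosure ?_) n
      show a ∈ thompsonSubgroupAOf (T : Subgroup X)
      rw [thompsonSubgroupAOf_eq]
      exact le_sSup (show A ∈ {A | IsMaxAbIn (T : Subgroup X) A} from hA) ha
    set T' := (T : Subgroup X).map (MulAut.conj n).toMonoidHom with hT'
    have hBT : B ≤ T' := map_mono hA.1
    haveI : IsMulCommutative B := by haveI := hA.2.1; rw [hB]; infer_instance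
    have hVT : V ≤ T' := by
      intro v hv
      refine ⟨n⁻¹ * v * n, hQT ((hVQ (?_ : n⁻¹ * v * n ∈ V)).1), by simp [mul_assoc]⟩
      simpa using (inferInstance : V.Normal).conj_mem v hv n⁻¹
    have hmax : ∀ D : Subgroup X, D ≤ T' → IsMulCommutative D → Nat.card D ≤ Nat.card B := by
      intro D hD hDc
      rw [hB, card_map_of_injective (MulAut.conj n).injective,
        ← card_map_of_injective (f := (MulAut.conj n⁻¹).toMonoidHom) (MulAut.conj n⁻¹).injective (K := D)]
      refine hA.2.2 _ ?_ (haveI := hDc; inferInstance)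
      rintro _ ⟨x, hx, rfl⟩
      obtain ⟨t, ht, rfl⟩ := hD hx
      have e : ∀ t : X, n⁻¹ * (n * t * n⁻¹) * n = t := fun t => by group
      change _ ∈ (T : Subgroup X)
      simp only [MulEquiv.coe_toMonoidHom, MulAut.conj_apply, inv_inv]
      rw [e]
      exact ht
    set B₀ := B ⊓ C with hB₀
    have hab : IsMulCommutative ↥(B₀ ⊔ V) := by
      rw [← closure_eq B₀, ← closure_eq V, ← Subgroup.closure_union]
      refine Subgroup.isMulCommutative_closure fun a ha b hb => ?_
      rcases ha with ha | ha <;> rcases hb with hb | hb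
      · exact congrArg Subtype.val (mul_comm' (⟨a, ha.1⟩ : B) ⟨b, hb.1⟩)
      · exact (mem_centralizer_iff.1 (hCV ha.2) b hb).symm
      · exact mem_centralizer_iff.1 (hCV hb.2) a ha
      · exact hVab a ha b hb
    set VB := V ⊓ centralizer (B : Set X) with hVB
    have h1 : Nat.card B₀ * Nat.card V ≤ Nat.card VB * Nat.card B := by
      refine (Timmesfeld.card_mul_card_le B₀ V).trans (Nat.mul_le_mul (card_le_of_le ?_)
        (hmax _ (sup_le (inf_le_left.trans hBT) hVT) hab))
      exact fun x hx => ⟨hx.2, mem_centralizer_iff.2 fun b hb =>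
        congrArg Subtype.val (mul_comm' (⟨b, hb⟩ : B) ⟨x, hx.1.1⟩)⟩
    have h2 : Nat.card B = Nat.card B₀ * Nat.card (B.map f) := by
      have h := Core.card_mul_relIndex (inf_le_left : B ⊓ C ≤ B)
      rw [inf_comm B C, inf_relIndex_right] at h
      rw [← h, inf_comm C B, ← relIndex_ker, hf, toModel_ker, hCΩ]
    have h3 : Nat.card V ≤ Nat.card VB * Nat.card (B.map f) := by
      refine Nat.le_of_mul_le_mul_left ?_ (Nat.card_pos (α := B₀))
      calc Nat.card B₀ * Nat.card V ≤ Nat.card VB * Nat.card B := h1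
        _ = Nat.card B₀ * (Nat.card VB * Nat.card (B.map f)) := by rw [h2]; ring
    set ΩB := Ω ⊓ centralizer (B : Set X) with hΩB
    have h4 : Nat.card Ω * Nat.card VB ≤ Nat.card ΩB * Nat.card V := by
      refine (Timmesfeld.card_mul_card_le Ω VB).trans (Nat.mul_le_mul (card_le_of_le ?_) (card_le_of_le ?_))
      · exact fun x hx => ⟨hx.1, hx.2.2⟩
      · exact sup_le (fun x hx => hx.1) inf_le_left
    have h5 : Nat.card Ω ≤ Nat.card (B.map f) * Nat.card ΩB := by
      refine Nat.le_of_mul_le_mul_left ?_ (Nat.card_pos (α := VB))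
      calc Nat.card VB * Nat.card Ω ≤ Nat.card ΩB * Nat.card V := by rw [mul_comm]; exact h4
        _ ≤ Nat.card ΩB * (Nat.card VB * Nat.card (B.map f)) := Nat.mul_le_mul_left _ h3
        _ = _ := by ring
    haveI : IsMulCommutative (B.map f) := inferInstance
    have hBH : B.map f ≤ H := map_mono hBY
    have hBp : IsPGroup 2 (B.map f) := ((T.2.map _).to_le hBT).map f
    obtain ⟨hle, heq⟩ := hs.abelian_card_le hBH hBp
    rw [hf, card_fixed, card_modV, ← hf] at hle heq
    have hc := le_antisymm hle h5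
    refine ⟨IsOff.best hs ⟨hBH, heq hc, ?_⟩, hBH⟩
    rw [hf, card_fixed, card_modV, ← hf]
    exact hc
  have hgen : H = ⨆ A : {A : Subgroup (Model Ω) // A ≤ H ∧ Cfsg.IsBestOffenderOn 2 (modV Ω) A},
      (A : Subgroup (Model Ω)) := by
    refine le_antisymm ?_ (iSup_le fun A => A.2.1)
    rw [hH, map_le_iff_le_comap, hY, ← SetLike.coe_subset_coe]
    show ((normalClosure _ : Subgroup X) : Set X) ⊆ _
    rw [normalClosure, SetLike.coe_subset_coe, closure_le]
    intro y hy
    obtain ⟨x, hx, hxy⟩ := Group.mem_conjugatesOfSet_iff.1 hy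
    obtain ⟨n, rfl⟩ := isConj_iff.1 hxy
    suffices hsub : J ≤ ((⨆ A : {A : Subgroup (Model Ω) // A ≤ H ∧ Cfsg.IsBestOffenderOn 2 (modV Ω) A},
        (A : Subgroup (Model Ω))).comap f).comap (MulAut.conj n).toMonoidHom from hsub hx
    rw [hJ, thompsonSubgroupAOf_eq, sSup_le_iff]
    intro A hA
    rw [← map_le_iff_le_comap, ← map_le_iff_le_comap]
    exact le_iSup_of_le (ι := {A : Subgroup (Model Ω) // A ≤ H ∧ Cfsg.IsBestOffenderOn 2 (modV Ω) A})
      ⟨_, (hbest A hA n).2, (hbest A hA n).1⟩ le_rfl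
  by_cases hH1 : H = ⊥
  · left
    show Y ≤ C
    rw [← hCΩ, ← toModel_ker]
    exact (Subgroup.map_eq_bot_iff _).1 hH1
  right
  obtain ⟨-, hE, hind, hsup, -⟩ :=
    Cfsg.Agent.S0617.result (modV Ω) H hs.hV hs.hHV hs.hf hs.hQ hgen hH1
  set ι := {E : Subgroup (Model Ω) // ∃ A : Subgroup (Model Ω), A ≤ H ∧
    Cfsg.IsBestOffenderOn 2 (modV Ω) A ∧ ⁅modV Ω, A⁆ ≠ ⊥ ∧
    (∀ B : Subgroup (Model Ω), B ≤ A → Cfsg.IsBestOffenderOn 2 (modV Ω) B → ⁅modV Ω, B⁆ ≠ ⊥ → B = A) ∧
    E = ⁅((Cfsg.pPrimeCore 2 ↥H).map H.subtype), A⁆ ⊔ A}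
  haveI : Fintype ι := Fintype.ofFinite ι
  set K : ι → Subgroup (Model Ω) := fun E => (E : Subgroup (Model Ω))
  have hKH : ∀ i, K i ≤ H := fun i => le_trans (le_iSup K i) hsup.le
  have hcomm : Pairwise fun i j => ∀ x y, x ∈ K i → y ∈ K j → Commute x y := by
    intro i j hij x y hx hy
    have hdis : ⁅K i, K j⁆ = ⊥ := by
      rw [eq_bot_iff]
      refine le_trans (le_inf ?_ ?_)
        ((hind i).mono_right (le_iSup₂ (f := fun k (_ : k ≠ i) => K k) j (Ne.symm hij))).le_bot
      · exact le_normalizer_iff_commutator_le_left.1 ((hKH j).trans (hE i).1)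
      · exact le_normalizer_iff_commutator_le_right.1 ((hKH i).trans (hE j).1)
    exact commutatorElement_eq_one_iff_commute.1 (mem_bot.1 (hdis.le (commutator_mem_commutator hx hy)))
  set φ := Subgroup.noncommPiCoprod hcomm with hφ
  have hφinj : Function.Injective φ := Subgroup.injective_noncommPiCoprod_of_iSupIndep (hcomm := hcomm) hind
  have hφrange : φ.range = H := (Subgroup.noncommPiCoprod_range (hcomm := hcomm)).trans hsup
  have hS : ∀ i, Nonempty (K i ≃* Equiv.Perm (Fin 3)) := fun i => by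
    obtain ⟨e⟩ := (hE i).2.1
    obtain ⟨e'⟩ := Cfsg.Lib.Linear.Two.sl_equiv_perm (F := ZMod 2) (ZMod.card 2)
    exact ⟨e.trans e'⟩
  let e₁ : (∀ i, K i) ≃* (Fin (Fintype.card ι) → Equiv.Perm (Fin 3)) :=
    (MulEquiv.piCongrRight fun i => (hS i).some).trans
      { Equiv.arrowCongr (Fintype.equivFin ι) (Equiv.refl (Equiv.Perm (Fin 3))) with
        map_mul' := fun a b => rfl }
  let g : ↥Y →* Model Ω := f.comp Y.subtype
  have hgker : g.ker = C.subgroupOf Y := by
    refine SetLike.ext fun y => ?_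
    rw [mem_subgroupOf]
    exact (SetLike.ext_iff.1 ((toModel_ker Ω).trans hCΩ) (y : X))
  have hgrange : g.range = H := by rw [MonoidHom.range_comp, range_subtype]
  refine ⟨Fintype.card ι, ?_, ?_⟩
  · rw [Nat.one_le_iff_ne_zero, Ne, Fintype.card_eq_zero_iff]
    intro h
    exact hH1 (by rw [← hsup]; exact iSup_of_empty K)
  · exact ⟨((QuotientGroup.quotientMulEquivOfEq hgker.symm).trans
      (QuotientGroup.quotientKerEquivRange g)).trans ((MulEquiv.subgroupCongr (hgrange.trans hφrange.symm)).trans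
        ((MonoidHom.ofInjective hφinj).symm.trans e₁))⟩

end Cfsg.Lib.Local.FF
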